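import Mathlib
import Cfsg.Prelude.Def_Local
import Cfsg.Agent.Lib.Components.GenFitting
import Cfsg.Agent.Lib.Coprime.Stabilize

/-!
# Groups of characteristic `p`

`CharP' p H` says `C_H(O_p(H)) ≤ O_p(H)`. The coprime A × B lemma in elementwise form, and the closure
properties: normal and subnormal subgroups, fixed points of `p`-groups, overgroups of `O_p`, and
`F*(H) = O_p(H)`.
-/

namespace Cfsg.Agent.Balance

open Subgroup

variable {G G' : Type*} [Group G] [Group G'] {p : ℕ}

/-- The normalizer of a set normalizes its centralizer. -/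
theorem normalizer_le_normalizer_centralizer (s : Set G) :
    normalizer s ≤ normalizer (centralizer s : Set G) :=
  (normal_subgroupOf_iff_le_normalizer (centralizer_le_normalizer s)).1 inferInstance

/-- An element whose order is prime to `p` lying in a `p`-subgroup is trivial. -/
theorem eq_one_of_mem_pGroup_of_coprime [Fact p.Prime] {P : Subgroup G} (hP : IsPGroup p ↥P) {y : G}
    (hy : y ∈ P) (hc : (orderOf y).Coprime p) : y = 1 := by
  obtain ⟨k, hk⟩ := hP ⟨y, hy⟩
  have h : y ^ p ^ k = 1 := by simpa using congrArg Subtype.val hk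
  exact orderOf_eq_one_iff.1
    (Nat.eq_one_of_dvd_coprimes (hc.pow_right k) dvd_rfl (orderOf_dvd_of_pow_eq_one h))

/-- A subgroup without nontrivial elements of order prime to `p` is a `p`-group. -/
theorem isPGroup_of_forall_coprime_eq_one [Finite G] [Fact p.Prime] {H : Subgroup G}
    (h : ∀ y ∈ H, (orderOf y).Coprime p → y = 1) : IsPGroup p ↥H := by
  intro y
  have hp : p.Prime := Fact.out
  have hn : orderOf (y : G) ≠ 0 := (orderOf_pos _).ne'
  refine ⟨(orderOf (y : G)).factorization p, Subtype.ext ?_⟩
  simp only [SubmonoidClass.coe_pow, OneMemClass.coe_one]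
  refine h _ (H.pow_mem y.2 _) ?_
  rw [orderOf_pow_of_dvd (pow_ne_zero _ hp.ne_zero) (Nat.ordProj_dvd _ _)]
  exact (Nat.coprime_ordCompl hp hn).symm

theorem coprime_orderOf_of_mem_pGroup [Fact p.Prime] {P : Subgroup G} (hP : IsPGroup p ↥P) {y z : G}
    (hz : z ∈ P) (hy : (orderOf y).Coprime p) : (orderOf y).Coprime (orderOf z) := by
  obtain ⟨k, hk⟩ := hP ⟨z, hz⟩
  have h : z ^ p ^ k = 1 := by simpa using congrArg Subtype.val hk
  exact (hy.pow_right k).coprime_dvd_right (orderOf_dvd_of_pow_eq_one h)

/-- An element of order prime to `p` moving `c` by a fixed `p`-element fixes `c`. -/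
theorem commute_of_translate' [Fact p.Prime] {P : Subgroup G} (hP : IsPGroup p ↥P) {y c z : G} (hz : z ∈ P)
    (hy : (orderOf y).Coprime p) (h1 : y * c * y⁻¹ = z * c) (h2 : Commute y z) : Commute y c :=
  Coprime.commute_of_translate h1 h2 (coprime_orderOf_of_mem_pGroup hP hz hy)

/-- Thompson's A × B lemma, elementwise: an element `x` of order prime to `p` normalising the `p`-group `P`,
commuting with the `p`-group `R` that normalises `P`, and fixing `C_P(R)`, fixes `P`. -/
theorem commute_of_commute_fixed [Finite G] [Fact p.Prime] {P R : Subgroup G} (hP : IsPGroup p ↥P)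
    (hR : IsPGroup p ↥R) (hRP : R ≤ normalizer (P : Set G)) {x : G} (hxP : x ∈ normalizer (P : Set G))
    (hx : (orderOf x).Coprime p) (hxR : ∀ r ∈ R, Commute x r)
    (hfix : ∀ c ∈ P, (∀ r ∈ R, Commute r c) → Commute x c) : ∀ c ∈ P, Commute x c := by
  set Q : Subgroup G := P ⊓ centralizer ({x} : Set G) with hQ
  have memQ : ∀ {c : G}, c ∈ Q ↔ c ∈ P ∧ Commute x c := by
    intro c
    rw [hQ, mem_inf, mem_centralizer_singleton_iff]
    exact and_congr_right fun _ => ⟨fun h => h.symm, fun h => h.eq.symm⟩
  have hRQ : R ≤ normalizer (Q : Set G) := by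
    rw [le_normalizer_iff]
    intro r hr c hc
    obtain ⟨h1, h2⟩ := memQ.1 hc
    exact memQ.2 ⟨(mem_normalizer_iff.1 (hRP hr) c).1 h1, ((hxR r hr).mul_right h2).mul_right
      (hxR r hr).inv_right⟩
  set S : Subgroup G := Q ⊔ R with hS
  have memS : ∀ {c : G}, c ∈ S ↔ ∃ q ∈ Q, ∃ r ∈ R, q * r = c := by
    intro c
    rw [hS, ← SetLike.mem_coe, coe_mul_of_right_le_normalizer_left Q R hRQ, Set.mem_mul]
    rfl
  by_cases hall : ∀ c ∈ P, c ∈ S
  · intro c hc
    obtain ⟨q, hq, r, hr, rfl⟩ := memS.1 (hall c hc)
    exact (memQ.1 hq).2.mul_right (hxR r hr)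
  · exfalso
    push Not at hall
    obtain ⟨c₀, hc₀, hc₀S⟩ := hall
    set U : Subgroup G := P ⊔ R with hU
    have hUp : IsPGroup p ↥U := hP.to_sup_of_normal_left' hR hRP
    have hSU : S ≤ U := sup_le_sup inf_le_left le_rfl
    have hne : S.subgroupOf U ≠ ⊤ := fun h =>
      hc₀S (subgroupOf_eq_top.1 h (hU ▸ mem_sup_left hc₀))
    have := hUp.isNilpotent
    have hlt := Group.normalizerCondition_of_isNilpotent _ (lt_top_iff_ne_top.2 hne)
    obtain ⟨y, hyN, hyS⟩ := SetLike.exists_of_lt hlt
    obtain ⟨c, hc, r₀, hr₀, hcr⟩ : ∃ c ∈ P, ∃ r ∈ R, c * r = (y : G) := by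
      have h2 : (y : G) ∈ ((P ⊔ R : Subgroup G) : Set G) := y.2
      rwa [coe_mul_of_right_le_normalizer_left P R hRP, Set.mem_mul] at h2
    have hyS' : (y : G) ∉ S := hyS
    have hyN' : ∀ s ∈ S, (y : G) * s * (y : G)⁻¹ ∈ S := by
      intro s hs
      exact (mem_normalizer_iff.1 hyN ⟨s, hSU hs⟩).1 hs
    have hcS : c ∉ S := fun h => hyS' (hcr ▸ S.mul_mem h (hS ▸ mem_sup_right hr₀))
    have hcN : ∀ r ∈ R, c * r * c⁻¹ ∈ S := by
      intro r hr
      have := hyN' (r₀⁻¹ * r * r₀)
        (hS ▸ mem_sup_right (R.mul_mem (R.mul_mem (R.inv_mem hr₀) hr) hr₀))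
      rw [← hcr] at this
      simpa [mul_assoc] using this
    -- `x` fixes the commutators of `c` with `R`
    have hcomm : ∀ r ∈ R, Commute x (c * r * c⁻¹ * r⁻¹) := by
      intro r hr
      obtain ⟨q, hq, r', hr', hqr⟩ := memS.1 (hcN r hr)
      rw [← hqr, mul_assoc]
      exact (memQ.1 hq).2.mul_right ((hxR r' hr').mul_right (hxR r hr).inv_right)
    set z := c⁻¹ * (x * c * x⁻¹) with hz
    have hzP : z ∈ P := P.mul_mem (P.inv_mem hc) ((mem_normalizer_iff.1 hxP c).1 hc)
    have hzR : ∀ r ∈ R, Commute r z := by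
      intro r hr
      have h1 := (hcomm r hr).eq
      have h2 := (hxR r hr).eq
      have h3 : (x * c * x⁻¹) * r * (x * c * x⁻¹)⁻¹ = c * r * c⁻¹ := by
        calc (x * c * x⁻¹) * r * (x * c * x⁻¹)⁻¹
            = x * c * x⁻¹ * (r * x) * c⁻¹ * x⁻¹ := by group
          _ = x * c * x⁻¹ * (x * r) * c⁻¹ * x⁻¹ := by rw [h2]
          _ = x * (c * r * c⁻¹ * r⁻¹) * (r * x⁻¹) := by group
          _ = c * r * c⁻¹ * r⁻¹ * x * (r * x⁻¹) := by rw [h1]
          _ = c * r * c⁻¹ * r⁻¹ * (x * r) * x⁻¹ := by group
          _ = c * r * c⁻¹ * r⁻¹ * (r * x) * x⁻¹ := by rw [h2]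
          _ = c * r * c⁻¹ := by group
      show r * z = z * r
      calc r * z = c⁻¹ * (c * r * c⁻¹) * (x * c * x⁻¹) := by rw [hz]; group
        _ = c⁻¹ * ((x * c * x⁻¹) * r * (x * c * x⁻¹)⁻¹) * (x * c * x⁻¹) := by rw [h3]
        _ = z * r := by rw [hz]; group
    have hxz : Commute x z := hfix z hzP hzR
    have hxc : Commute x c⁻¹ :=
      commute_of_translate' hP (P.inv_mem hzP) hx (by rw [hz]; group) hxz.inv_right
    exact hcS (hS ▸ mem_sup_left (memQ.2 ⟨hc, by simpa using hxc.inv_right⟩))

/-! ### `O_p` -/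

theorem map_pCore_le {f : G →* G'} (hf : Function.Surjective f) : (pCore p G).map f ≤ pCore p G' := by
  rw [map_le_iff_le_comap]
  exact sSup_le fun N hN => map_le_iff_le_comap.1 (le_sSup ⟨hN.1.map f hf, hN.2.map f⟩)

instance pCore_characteristic (p : ℕ) (G : Type*) [Group G] : (pCore p G).Characteristic :=
  characteristic_iff_map_le.mpr fun e => map_pCore_le e.surjective

theorem pCore_le_sylow [Finite G] [Fact p.Prime] (P : Sylow p G) : pCore p G ≤ P := by
  have := Components.pCore_normal' (G := G) p
  exact le_sup_left.trans_eq (P.3 (IsPGroup.to_sup_of_normal_left (Components.isPGroup_pCore' p) P.2)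
    le_sup_right)

/-- `O_p(H)` as a subgroup of the ambient group. -/
abbrev core (p : ℕ) (H : Subgroup G) : Subgroup G := (pCore p ↥H).map H.subtype

theorem core_le (H : Subgroup G) : core p H ≤ H := map_subtype_le _

theorem isPGroup_core [Finite G] (H : Subgroup G) : IsPGroup p ↥(core p H) :=
  (Components.isPGroup_pCore' p).map _

theorem normalizer_le_normalizer_core (H : Subgroup G) :
    normalizer (H : Set G) ≤ normalizer (core p H : Set G) :=
  Components.normalizer_le_normalizer_map_of_characteristic H _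

theorem le_normalizer_core (H : Subgroup G) : H ≤ normalizer (core p H : Set G) :=
  le_normalizer.trans (normalizer_le_normalizer_core H)

theorem le_core {H R : Subgroup G} (hRH : R ≤ H) (hHR : H ≤ normalizer (R : Set G)) (hR : IsPGroup p ↥R) :
    R ≤ core p H := by
  rw [← map_subgroupOf_eq_of_le hRH]
  exact map_mono (le_sSup ⟨normal_subgroupOf_of_le_normalizer hHR,
    hR.of_equiv (subgroupOfEquivOfLe hRH).symm⟩)

/-- `O_p` of a subgroup normalised by `H ≥ K` lies in `O_p(H)`. -/
theorem core_le_core [Finite G] {K H : Subgroup G} (hKH : K ≤ H) (hH : H ≤ normalizer (K : Set G)) :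
    core p K ≤ core p H :=
  le_core ((core_le K).trans hKH) (hH.trans (normalizer_le_normalizer_core K)) (isPGroup_core K)

theorem core_top : core p (⊤ : Subgroup G) = pCore p G := by
  refine le_antisymm ?_ fun x hx => ?_
  · rw [map_le_iff_le_comap]
    exact fun x hx => map_pCore_le (f := (topEquiv (G := G)).toMonoidHom) (topEquiv (G := G)).surjective (mem_map_of_mem _ hx)
  · exact ⟨topEquiv.symm x, map_pCore_le (f := (topEquiv (G := G)).symm.toMonoidHom)
      topEquiv.symm.surjective (mem_map_of_mem _ hx), rfl⟩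

theorem core_map_subtype {H : Subgroup G} (K : Subgroup ↥H) :
    core p (K.map H.subtype) = (core p K).map H.subtype := by
  have hinj := H.subtype_injective
  let e := K.equivMapOfInjective H.subtype hinj
  have : (pCore p ↥K).map e.toMonoidHom = pCore p ↥(K.map H.subtype) := by
    refine le_antisymm (map_pCore_le e.surjective) fun x hx => ?_
    exact ⟨e.symm x, map_pCore_le (f := e.symm.toMonoidHom) e.symm.surjective (mem_map_of_mem _ hx),
      e.apply_symm_apply x⟩
  rw [core, ← this, Subgroup.map_map, core, Subgroup.map_map]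
  rfl

/-- The `p`-core of a subnormal subgroup lies in the `p`-core. -/
theorem core_le_pCore_of_isSubnormal [Finite G] {K : Subgroup G} (hK : K.IsSubnormal) :
    core p K ≤ pCore p G := by
  induction hK with
  | top => exact core_top.le
  | step K H hle hH hN ih =>
    exact (core_le_core hle ((normal_subgroupOf_iff_le_normalizer hle).1 hN)).trans ih

/-! ### Characteristic `p` -/

/-- `H` has characteristic `p`: its `p`-core contains its centraliser. -/
def CharP' (p : ℕ) (H : Subgroup G) : Prop := H ⊓ centralizer (core p H : Set G) ≤ core p H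

theorem CharP'.eq_one [Fact p.Prime] [Finite G] {H : Subgroup G} (h : CharP' p H) {y : G} (hy : y ∈ H)
    (hc : (orderOf y).Coprime p) (hcomm : ∀ r ∈ core p H, Commute y r) : y = 1 :=
  eq_one_of_mem_pGroup_of_coprime (isPGroup_core H)
    (h ⟨hy, mem_centralizer_iff.2 fun r hr => (hcomm r hr).eq.symm⟩) hc

theorem charP'_of_forall [Fact p.Prime] [Finite G] {H : Subgroup G}
    (h : ∀ y ∈ H, (orderOf y).Coprime p → (∀ r ∈ core p H, Commute y r) → y = 1) : CharP' p H := by
  refine le_core inf_le_left ?_ ?_
  · refine (le_inf le_normalizer ((le_normalizer_core (p := p) H).trans (normalizer_le_normalizer_centralizer _))).trans inf_normalizer_le_normalizer_inf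
  · exact isPGroup_of_forall_coprime_eq_one fun y hy hc =>
      h y hy.1 hc fun r hr => (mem_centralizer_iff.1 hy.2 r hr).symm

theorem charP'_top_iff : CharP' p (⊤ : Subgroup G) ↔ centralizer (pCore p G : Set G) ≤ pCore p G := by
  rw [CharP', core_top, top_inf_eq]

theorem charP'_map_subtype_iff {H : Subgroup G} (K : Subgroup ↥H) :
    CharP' p (K.map H.subtype) ↔ CharP' p K := by
  unfold CharP'
  rw [core_map_subtype]
  constructor
  · intro h x hx
    have : (x : G) ∈ (core p K).map H.subtype := h ⟨mem_map_of_mem H.subtype hx.1,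
      mem_centralizer_iff.2 (by
        rintro _ ⟨r, hr, rfl⟩
        exact congrArg Subtype.val (mem_centralizer_iff.1 hx.2 r hr))⟩
    obtain ⟨x', hx', he⟩ := this
    exact (Subtype.ext he : x' = x) ▸ hx'
  · rintro h _ ⟨⟨x, hx, rfl⟩, hc⟩
    exact mem_map_of_mem H.subtype (h ⟨hx, mem_centralizer_iff.2 fun r hr => Subtype.ext
      (mem_centralizer_iff.1 hc _ (mem_map_of_mem H.subtype hr))⟩)

theorem charP'_iff_type (H : Subgroup G) :
    CharP' p H ↔ centralizer (pCore p ↥H : Set ↥H) ≤ pCore p ↥H := by
  have : (⊤ : Subgroup ↥H).map H.subtype = H := by rw [← MonoidHom.range_eq_map, range_subtype]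
  rw [← charP'_top_iff, ← charP'_map_subtype_iff, this]

theorem charP'_two_iff (H : Subgroup G) : CharP' 2 H ↔ IsOfCharacteristicTwo ↥H := charP'_iff_type H

/-- Normal subgroups inherit characteristic `p`. -/
theorem CharP'.of_normal [Fact p.Prime] [Finite G] {K H : Subgroup G} (h : CharP' p H) (hKH : K ≤ H)
    (hHK : H ≤ normalizer (K : Set G)) : CharP' p K := by
  refine charP'_of_forall fun y hy hc hcomm => h.eq_one (hKH hy) hc fun r hr => ?_
  have hz : y * r * y⁻¹ * r⁻¹ ∈ K ⊓ core p H := by
    refine ⟨?_, (core p H).mul_mem ((mem_normalizer_iff.1 (le_normalizer_core H (hKH hy)) r).1 hr)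
      ((core p H).inv_mem hr)⟩
    have := K.mul_mem hy ((mem_normalizer_iff.1 (hHK (core_le H hr)) _).1 (K.inv_mem hy))
    simpa [mul_assoc] using this
  have hle : K ⊓ core p H ≤ core p K := le_core inf_le_left
    ((le_inf le_normalizer ((hKH).trans (le_normalizer_core H))).trans inf_normalizer_le_normalizer_inf)
    ((isPGroup_core H).to_le inf_le_right)
  exact commute_of_translate' (isPGroup_core K) (hle hz) hc (by group) (hcomm _ (hle hz))

/-- Subnormal subgroups inherit characteristic `p`. -/
theorem charP'_of_isSubnormal [Fact p.Prime] [Finite G] (h : centralizer (pCore p G : Set G) ≤ pCore p G)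
    {K : Subgroup G} (hK : K.IsSubnormal) : CharP' p K := by
  induction hK with
  | top => exact charP'_top_iff.2 h
  | step K H hle hH hN ih => exact ih.of_normal hle ((normal_subgroupOf_iff_le_normalizer hle).1 hN)

theorem CharP'.of_isSubnormal [Fact p.Prime] [Finite G] {H : Subgroup G} (h : CharP' p H) {K : Subgroup G}
    (hKH : K ≤ H) (hK : (K.subgroupOf H).IsSubnormal) : CharP' p K := by
  rw [← map_subgroupOf_eq_of_le hKH, charP'_map_subtype_iff]
  exact charP'_of_isSubnormal ((charP'_iff_type H).1 h) hK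

/-- An intermediate subgroup containing `O_p(M)` inherits characteristic `p` from `M`. -/
theorem CharP'.of_le [Fact p.Prime] [Finite G] {H M : Subgroup G} (h : CharP' p M) (hHM : H ≤ M)
    (hc : core p M ≤ H) : CharP' p H := by
  have : core p M ≤ core p H := le_core hc (hHM.trans (le_normalizer_core M)) (isPGroup_core M)
  refine le_trans (le_trans ?_ h) this
  exact inf_le_inf hHM (centralizer_le this)

/-- Fixed points of a `p`-group on a group of characteristic `p` have characteristic `p`. -/
theorem CharP'.inf_centralizer [Fact p.Prime] [Finite G] {C A : Subgroup G} (h : CharP' p C)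
    (hA : IsPGroup p ↥A) (hAC : A ≤ normalizer (C : Set G)) : CharP' p (C ⊓ centralizer (A : Set G)) := by
  refine charP'_of_forall fun y hy hc hcomm => h.eq_one hy.1 hc ?_
  refine commute_of_commute_fixed (isPGroup_core C) hA (hAC.trans (normalizer_le_normalizer_core C))
    (le_normalizer_core C hy.1) hc (fun r hr => (mem_centralizer_iff.1 hy.2 r hr).symm) fun c hcC hcA => ?_
  refine hcomm c ?_
  have hle : core p C ⊓ centralizer (A : Set G) ≤ core p (C ⊓ centralizer (A : Set G)) :=
    le_core (inf_le_inf_right _ (core_le C))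
      ((inf_le_inf (le_normalizer_core C) le_normalizer).trans inf_normalizer_le_normalizer_inf)
      ((isPGroup_core C).to_le inf_le_left)
  exact hle ⟨hcC, mem_centralizer_iff.2 fun r hr => (hcA r hr).eq⟩

/-- If `V ≤ W` are `p`-groups and `C(V)` has characteristic `p`, so has `C(W)`. -/
theorem CharP'.centralizer_mono [Fact p.Prime] [Finite G] {V W : Subgroup G} (hVW : V ≤ W)
    (hW : IsPGroup p ↥W) (h : CharP' p (centralizer (V : Set G))) : CharP' p (centralizer (W : Set G)) := by
  induction V using WellFoundedGT.induction with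
  | _ V ih =>
    by_cases hV : V = W
    · exact hV ▸ h
    have := hW.isNilpotent
    have hlt := Group.normalizerCondition_of_isNilpotent (V.subgroupOf W) (lt_top_iff_ne_top.2
      fun he => hV (le_antisymm hVW (subgroupOf_eq_top.1 he)))
    obtain ⟨y, hyN, hyV⟩ := SetLike.exists_of_lt hlt
    have hyN' : (y : G) ∈ normalizer (V : Set G) := by
      refine mem_normalizer_iff.2 fun v => ⟨fun hv => ?_, fun hv => ?_⟩
      · exact (mem_normalizer_iff.1 hyN ⟨v, hVW hv⟩).1 hv
      · have hvW : v ∈ W := by
          have := W.mul_mem (W.mul_mem (W.inv_mem y.2) (hVW hv)) y.2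
          simpa [mul_assoc] using this
        exact (mem_normalizer_iff.1 hyN ⟨v, hvW⟩).2 hv
    set V' : Subgroup G := W ⊓ normalizer (V : Set G) with hV'
    have hVV' : V < V' := lt_of_le_of_ne (le_inf hVW le_normalizer) fun he =>
      hyV (show (y : G) ∈ V from he ▸ ⟨y.2, hyN'⟩)
    refine ih V' hVV' inf_le_left ?_
    have e : centralizer (V' : Set G) = centralizer (V : Set G) ⊓ centralizer (V' : Set G) :=
      (inf_eq_right.2 (centralizer_le hVV'.le)).symm
    rw [e]
    exact h.inf_centralizer (hW.to_le inf_le_left) (inf_le_right.trans (normalizer_le_normalizer_centralizer _))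

/-- A group with a normal subgroup of characteristic `p` containing the centraliser of `O_p` has
characteristic `p`. -/
theorem charP'_of_centralizer_le [Fact p.Prime] [Finite G] {X D : Subgroup G} (hDX : D ≤ X)
    (hXD : X ≤ normalizer (D : Set G)) (hD : X ⊓ centralizer (core p X : Set G) ≤ D) (h : CharP' p D) :
    CharP' p X :=
  charP'_of_forall fun y hy hc hcomm =>
    h.eq_one (hD ⟨hy, mem_centralizer_iff.2 fun r hr => (hcomm r hr).eq.symm⟩) hc fun r hr =>
      hcomm r (core_le_core hDX hXD hr)

/-- A group of characteristic `p` has `F* = O_p`. -/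
theorem generalizedFitting_eq_pCore [Fact p.Prime] [Finite G]
    (h : centralizer (pCore p G : Set G) ≤ pCore p G) : generalizedFittingSubgroup G = pCore p G := by
  have hP : IsPGroup p ↥(pCore p G) := Components.isPGroup_pCore' p
  have := hP.isNilpotent
  refine le_antisymm (sup_le (sSup_le fun K hK => ?_) ?_)
    ((Components.pCore_le_fittingSubgroup Fact.out).trans le_sup_right)
  · exfalso
    have hc : K ≤ pCore p G := (Components.le_centralizer_of_commutator_eq_bot
      (Components.IsComponent.commutator_eq_bot_of_isSolvable hK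
        (Components.pCore_normal' p).isSubnormal)).trans h
    exact Components.IsComponent.not_isSolvable hK
      (Group.isSolvable_of_isSolvable_injective (f := inclusion hc) (inclusion_injective hc))
  · rw [Components.fittingSubgroup_eq_iSup_pCore]
    refine iSup_le fun q => ?_
    by_cases hq : (q : ℕ) = p
    · rw [hq]
    · have := Fact.mk (Nat.prime_of_mem_primeFactors q.2)
      have hd : Disjoint (pCore (q : ℕ) G) (pCore p G) :=
        IsPGroup.disjoint_of_ne _ _ hq _ _ (Components.isPGroup_pCore' _) hP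
      refine le_trans (fun x hx => ?_) h
      exact mem_centralizer_iff.2 fun y hy => (commute_of_normal_of_disjoint _ _
        (Components.pCore_normal' _) (Components.pCore_normal' _) hd x y hx hy).eq.symm

end Cfsg.Agent.Balance
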