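import Mathlib
import Cfsg.Prelude.Def_Local
import Cfsg.Agent.Lib.Components.GenFitting
import Cfsg.Agent.Lib.PCore.Basic
import Cfsg.Agent.Lib.PGroup.Basic
import Cfsg.Agent.Lib.Balance.CharP

/-!
# Components and `O_{p'}` of centralizers of `p`-subgroups

For `O_{p'}(X) = 1` and a `p`-subgroup `R`, write `N = O_{p'}(C(R) ∩ C(O_p X))`.

* `core'_centralizer_le`: `O_{p'}(C(R))` centralises `O_p(X)`, hence lies in `N`;
* `mem_normalizer_of_mem_core'`: `N` normalises every component;
* `commute_of_moved`, `commute_of_fixed`: for `R = ⟨b⟩`, `b ^ p = 1`, `N` centralises every component moved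
  or centralised by `b`;
* `exists_conj_eq`: the orbit argument in general form.
-/

namespace Cfsg.Agent.Balance

open Subgroup
open scoped commutatorElement Pointwise

variable {X : Type*} [Group X] [Finite X] {p : ℕ}

/-- `O_{p'}(H)` as a subgroup of the ambient group. -/
abbrev core' (p : ℕ) (H : Subgroup X) : Subgroup X := (pPrimeCore p ↥H).map H.subtype

omit [Finite X] in
theorem core'_le (H : Subgroup X) : core' p H ≤ H := map_subtype_le _

omit [Finite X] in
theorem normalizer_le_normalizer_core' (H : Subgroup X) :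
    normalizer (H : Set X) ≤ normalizer (core' p H : Set X) :=
  Components.normalizer_le_normalizer_map_of_characteristic H _

omit [Finite X] in
theorem le_normalizer_core' (H : Subgroup X) : H ≤ normalizer (core' p H : Set X) :=
  le_normalizer.trans (normalizer_le_normalizer_core' H)

omit [Finite X] in
theorem le_core' {H R : Subgroup X} (hRH : R ≤ H) (hHR : H ≤ normalizer (R : Set X))
    (hR : (Nat.card ↥R).Coprime p) : R ≤ core' p H := by
  rw [← map_subgroupOf_eq_of_le hRH]
  exact map_mono (le_sSup ⟨normal_subgroupOf_of_le_normalizer hHR,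
    by rwa [Nat.card_congr (subgroupOfEquivOfLe hRH).toEquiv]⟩)

theorem card_core'_coprime (H : Subgroup X) : (Nat.card ↥(core' p H)).Coprime p := by
  rw [core', Subgroup.card_map_of_injective H.subtype_injective]
  exact PCore.coprime_card_pPrimeCore

theorem coprime_orderOf_of_mem_core' {H : Subgroup X} {y : X} (hy : y ∈ core' p H) :
    (orderOf y).Coprime p :=
  (card_core'_coprime H).coprime_dvd_left (Subgroup.orderOf_dvd_natCard _ hy)

/-- A core of a subgroup lies in the core of any intermediate subgroup normalised by it. -/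
theorem core'_inf_le {H L : Subgroup X} (hLH : L ≤ H) : core' p H ⊓ L ≤ core' p L :=
  le_core' inf_le_right ((le_inf (hLH.trans (le_normalizer_core' H)) le_normalizer).trans
      inf_normalizer_le_normalizer_inf)
    ((card_core'_coprime H).coprime_dvd_left (Subgroup.card_dvd_of_le inf_le_left))

theorem core'_le_core'_of_normalized {K H : Subgroup X} (hKH : K ≤ H) (hH : H ≤ normalizer (K : Set X)) :
    core' p K ≤ core' p H :=
  le_core' ((core'_le K).trans hKH) (hH.trans (normalizer_le_normalizer_core' K)) (card_core'_coprime K)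

theorem core'_le_pPrimeCore_of_isSubnormal {K : Subgroup X} (hK : K.IsSubnormal) :
    core' p K ≤ pPrimeCore p X := by
  induction hK with
  | top =>
    have : (core' p (⊤ : Subgroup X)).Normal := ConjAct.normal_of_characteristic_of_normal
    exact PCore.le_pPrimeCore (card_core'_coprime _)
  | step K H hle hH hN ih =>
    exact (core'_le_core'_of_normalized hle ((normal_subgroupOf_iff_le_normalizer hle).1 hN)).trans ih

theorem fitting_eq_pCore [hp : Fact p.Prime] (h : pPrimeCore p X = ⊥) : fittingSubgroup X = pCore p X := by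
  refine le_antisymm ?_ (Components.pCore_le_fittingSubgroup Fact.out)
  rw [Components.fittingSubgroup_eq_iSup_pCore]
  refine iSup_le fun q => ?_
  by_cases hq : (q : ℕ) = p
  · rw [hq]
  · have := Fact.mk (Nat.prime_of_mem_primeFactors q.2)
    exact le_trans (h ▸ PCore.pCore_le_pPrimeCore hq) bot_le

theorem le_pCore_of_nilpotent [hp : Fact p.Prime] (h : pPrimeCore p X = ⊥) {M : Subgroup X}
    (hM : M.IsSubnormal) [Group.IsNilpotent ↥M] : M ≤ pCore p X :=
  fitting_eq_pCore h ▸ Components.le_fittingSubgroup_of_isSubnormal hM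

/-- The centre of a subnormal subgroup lies in `O_p` when `O_{p'} = 1`. -/
theorem inf_centralizer_le_pCore [hp : Fact p.Prime] (h : pPrimeCore p X = ⊥) {M : Subgroup X}
    (hM : M.IsSubnormal) : M ⊓ centralizer (M : Set X) ≤ pCore p X := by
  have hsn : (M ⊓ centralizer (M : Set X)).IsSubnormal :=
    Components.isSubnormal_of_normalized hM inf_le_left ((le_inf le_normalizer
      (le_normalizer.trans (normalizer_le_normalizer_centralizer _))).trans inf_normalizer_le_normalizer_inf)
  have : Group.IsNilpotent ↥(M ⊓ centralizer (M : Set X)) := by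
    refine Components.isNilpotent_of_commutator_commutator ?_
    have : ⁅M ⊓ centralizer (M : Set X), M ⊓ centralizer (M : Set X)⁆ = ⊥ :=
      commutator_eq_bot_iff_le_centralizer.2 (inf_le_right.trans (centralizer_le inf_le_left))
    rw [this, commutator_bot_left]
  exact le_pCore_of_nilpotent h hsn

theorem commute_layer_pCore [hp : Fact p.Prime] {e z : X} (he : e ∈ layer X) (hz : z ∈ pCore p X) :
    Commute e z := by
  have := (Components.isPGroup_pCore' (G := X) p).isNilpotent
  have h := commutator_eq_bot_iff_le_centralizer.1 (Components.commutator_layer_eq_bot_of_isSolvable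
    (U := pCore p X) (Components.pCore_normal' p).isSubnormal)
  exact (mem_centralizer_iff.1 (h he) z hz).symm

/-- An element of order prime to `p` centralising the components and `O_p` is trivial. -/
theorem eq_one_of_centralizes [hp : Fact p.Prime] (h : pPrimeCore p X = ⊥) {x : X}
    (hx : (orderOf x).Coprime p) (hZ : ∀ z ∈ pCore p X, Commute x z)
    (hE : ∀ K : Subgroup X, IsComponent K → ∀ k ∈ K, Commute x k) : x = 1 := by
  set F := generalizedFittingSubgroup X with hF
  have hxF : x ∈ centralizer (F : Set X) := by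
    have hle : F ≤ centralizer ({x} : Set X) := sup_le
      (sSup_le fun K hK k hk => mem_centralizer_singleton_iff.2 (hE K hK k hk).eq.symm)
      (fun z hz => mem_centralizer_singleton_iff.2 (hZ z (fitting_eq_pCore h ▸ hz)).eq.symm)
    exact mem_centralizer_iff.2 fun k hk => mem_centralizer_singleton_iff.1 (hle hk)
  have hsn : (F : Subgroup X).IsSubnormal := (Components.generalizedFittingSubgroup_normal X).isSubnormal
  exact eq_one_of_mem_pGroup_of_coprime (Components.isPGroup_pCore' p)
    (inf_centralizer_le_pCore h hsn ⟨Components.centralizer_generalizedFittingSubgroup_le hxF, hxF⟩) hx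

/-- A component has an element of `p`-power order outside `O_p`. -/
theorem exists_pElement_component [hp : Fact p.Prime] (h : pPrimeCore p X = ⊥) {K : Subgroup X}
    (hK : IsComponent K) : ∃ c ∈ K, (∃ k : ℕ, c ^ p ^ k = 1) ∧ c ∉ pCore p X := by
  by_contra hcon
  push Not at hcon
  obtain ⟨P⟩ : Nonempty (Sylow p ↥K) := inferInstance
  have hPc : ∀ x ∈ (P : Subgroup ↥K), ∀ y : ↥K, y * x = x * y := by
    intro x hx y
    obtain ⟨k, hk⟩ := P.2 ⟨x, hx⟩
    have hxk : (x : X) ^ p ^ k = 1 := by
      have := congrArg (fun z : ↥(P : Subgroup ↥K) => ((z : ↥K) : X)) hk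
      simpa using this
    exact Subtype.ext (commute_layer_pCore (Components.IsComponent.le_layer hK y.2) (hcon x x.2 ⟨k, hxk⟩)).eq
  have hNC : normalizer ((P : Subgroup ↥K) : Set ↥K) ≤ centralizer ((P : Subgroup ↥K) : Set ↥K) :=
    fun y _ => mem_centralizer_iff.2 fun x hx => (hPc x hx y).symm
  have hker : (MonoidHom.transferSylow P hNC).ker = ⊤ := by
    rw [eq_top_iff, ← hK.2.1.commutator_eq_top, _root_.commutator_def, Subgroup.commutator_le]
    intro a _ b _
    rw [MonoidHom.mem_ker, map_commutatorElement, commutatorElement_eq_one_iff_mul_comm]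
    exact Subtype.ext (hPc _ (MonoidHom.transferSylow P hNC b).2 _)
  have hc := MonoidHom.ker_transferSylow_isComplement' P hNC
  rw [hker, isComplement'_top_left] at hc
  have hcop : (Nat.card ↥K).Coprime p := by
    rw [Nat.coprime_comm, hp.out.coprime_iff_not_dvd]
    have := P.not_dvd_index
    rwa [hc, index_bot] at this
  have h1 : K ≤ core' p K := le_core' le_rfl le_normalizer hcop
  exact Components.IsComponent.ne_bot hK (le_bot_iff.1 (h ▸ h1.trans (core'_le_pPrimeCore_of_isSubnormal hK.1)))

/-- The elements centralising `R` modulo `O_p(X)`. -/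
def fixedMod (p : ℕ) (R : Subgroup X) : Subgroup X :=
  (centralizer ((R.map (QuotientGroup.mk' (pCore p X)) : Subgroup (X ⧸ pCore p X)) :
    Set (X ⧸ pCore p X))).comap (QuotientGroup.mk' (pCore p X))

omit [Finite X] in
theorem mem_fixedMod {R : Subgroup X} {c : X} :
    c ∈ fixedMod p R ↔ ∀ r ∈ R, r * c * r⁻¹ * c⁻¹ ∈ pCore p X := by
  simp only [fixedMod, mem_comap, mem_centralizer_iff, SetLike.mem_coe, Subgroup.mem_map,
    forall_exists_index, and_imp, forall_apply_eq_imp_iff₂, QuotientGroup.mk'_apply]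
  refine forall₂_congr fun r _ => ?_
  rw [← QuotientGroup.mk_mul, ← QuotientGroup.mk_mul, QuotientGroup.eq]
  have e1 : r * c * r⁻¹ * c⁻¹ = c * (c⁻¹ * (r * c * r⁻¹ * c⁻¹) * c) * c⁻¹ := by group
  constructor
  · intro h
    have h2 : (r * c)⁻¹ * (c * r) ∈ pCore p X := h
    have := (Components.pCore_normal' (G := X) p).conj_mem _ (inv_mem h2) (c * r)
    simpa [mul_assoc] using this
  · intro h
    have := (Components.pCore_normal' (G := X) p).conj_mem _ (inv_mem h) (c * r)⁻¹
    simpa [mul_assoc] using this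

/-- `C(R) ∩ C(O_p X)`. -/
abbrev centR (p : ℕ) (R : Subgroup X) : Subgroup X :=
  centralizer (R : Set X) ⊓ centralizer (pCore p X : Set X)

/-- Elements centralising `R` modulo `O_p` and centralising `O_p` normalise `C(R) ∩ C(O_p)`. -/
theorem fixedMod_le_normalizer (R : Subgroup X) :
    fixedMod p R ≤ normalizer (centR p R : Set X) := by
  rw [le_normalizer_iff]
  intro u hu y hy
  have := Components.pCore_normal' (G := X) p
  refine ⟨mem_centralizer_iff.2 fun r hr => ?_,
    (mem_normalizer_iff.1 (le_of_le_of_eq le_top (normalizer_eq_top (H := centralizer (pCore p X : Set X))).symm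
      (mem_top u)) y).1 hy.2⟩
  have hz : r * u * r⁻¹ * u⁻¹ ∈ pCore p X := mem_fixedMod.1 hu r hr
  have hyr : r * y = y * r := mem_centralizer_iff.1 hy.1 r hr
  have hyz : (u⁻¹ * (r * u * r⁻¹ * u⁻¹) * u) * y = y * (u⁻¹ * (r * u * r⁻¹ * u⁻¹) * u) := by
    refine mem_centralizer_iff.1 hy.2 _ ?_
    have := (Components.pCore_normal' (G := X) p).conj_mem _ hz u⁻¹
    simpa using this
  calc r * (u * y * u⁻¹) = u * ((u⁻¹ * (r * u * r⁻¹ * u⁻¹) * u) * (r * y) * u⁻¹) := by group
    _ = u * (((u⁻¹ * (r * u * r⁻¹ * u⁻¹) * u) * y) * r * u⁻¹) := by rw [hyr]; group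
    _ = u * ((y * (u⁻¹ * (r * u * r⁻¹ * u⁻¹) * u)) * r * u⁻¹) := by rw [hyz]
    _ = u * y * u⁻¹ * r := by group

theorem fixedMod_le_normalizer_core' (R : Subgroup X) :
    fixedMod p R ≤ normalizer (core' p (centR p R) : Set X) :=
  (fixedMod_le_normalizer R).trans (normalizer_le_normalizer_core' _)

/-- A subgroup of order prime to `p` centralising `R` and normalised by `C(R)` centralises `O_p(X)`. -/
theorem le_centralizer_pCore [hp : Fact p.Prime] {R D : Subgroup X} (hR : IsPGroup p ↥R)
    (hD : D ≤ centralizer (R : Set X)) (hN : centralizer (R : Set X) ≤ normalizer (D : Set X))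
    (hcop : (Nat.card ↥D).Coprime p) : D ≤ centralizer (pCore p X : Set X) := by
  intro d hd
  have hdo : (orderOf d).Coprime p := hcop.coprime_dvd_left (Subgroup.orderOf_dvd_natCard D hd)
  refine mem_centralizer_iff.2 fun z hz => ?_
  refine ((commute_of_commute_fixed (Components.isPGroup_pCore' p) hR
    (le_of_le_of_eq le_top (normalizer_eq_top (H := pCore p X)).symm)
    (le_of_le_of_eq le_top (normalizer_eq_top (H := pCore p X)).symm (mem_top d)) hdo
    (fun r hr => (mem_centralizer_iff.1 (hD hd) r hr).symm) (fun c hc hcR => ?_)) z hz).eq.symm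
  have h1 : d * c * d⁻¹ * c⁻¹ ∈ D := by
    have := D.mul_mem hd ((mem_normalizer_iff.1 (hN (mem_centralizer_iff.2 fun r hr => (hcR r hr).eq)) _).1
      (D.inv_mem hd))
    simpa [mul_assoc] using this
  have h2 : d * c * d⁻¹ * c⁻¹ ∈ pCore p X :=
    mul_mem ((Components.pCore_normal' (G := X) p).conj_mem c hc d) (inv_mem hc)
  have h3 := eq_one_of_mem_pGroup_of_coprime (Components.isPGroup_pCore' p) h2
    (hcop.coprime_dvd_left (Subgroup.orderOf_dvd_natCard D h1))
  exact mul_inv_eq_iff_eq_mul.1 (mul_inv_eq_one.1 h3)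

/-- `O_{p'}(C(R))`, or any normalised `p'`-subgroup of `C(R)`, lies in `O_{p'}(C(R) ∩ C(O_p X))`. -/
theorem le_core'_centR [hp : Fact p.Prime] {R D : Subgroup X} (hR : IsPGroup p ↥R)
    (hD : D ≤ centralizer (R : Set X)) (hN : centralizer (R : Set X) ≤ normalizer (D : Set X))
    (hcop : (Nat.card ↥D).Coprime p) : D ≤ core' p (centR p R) :=
  le_core' (le_inf hD (le_centralizer_pCore hR hD hN hcop)) (inf_le_left.trans hN) hcop

omit [Finite X] in
theorem mem_normalizer_of_map_conj_eq {K : Subgroup X} {g : X}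
    (h : K.map (MulAut.conj g).toMonoidHom = K) : g ∈ normalizer (K : Set X) := by
  refine mem_normalizer_iff.2 fun x => ⟨fun hx => ?_, fun hx => ?_⟩
  · exact h ▸ ⟨x, hx, by simp⟩
  · rw [← h] at hx
    obtain ⟨y, hy, he⟩ := hx
    have : y = x := (MulAut.conj g).injective (by simpa using he)
    exact this ▸ hy

omit [Finite X] in
theorem map_conj_eq_of_mem_normalizer {K : Subgroup X} {g : X} (h : g ∈ normalizer (K : Set X)) :
    K.map (MulAut.conj g).toMonoidHom = K := by
  refine le_antisymm ?_ fun x hx => ?_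
  · rintro _ ⟨x, hx, rfl⟩
    simpa using (mem_normalizer_iff.1 h x).1 hx
  · exact ⟨g⁻¹ * x * g, (mem_normalizer_iff''.1 h x).1 hx, by simp [mul_assoc]⟩

omit [Finite X] in
theorem map_conj_mul (K : Subgroup X) (a b : X) :
    K.map (MulAut.conj (a * b)).toMonoidHom =
      (K.map (MulAut.conj b).toMonoidHom).map (MulAut.conj a).toMonoidHom := by
  rw [Subgroup.map_map]
  congr 1
  ext x
  simp [mul_assoc]

/-- The orbit argument: an element commuting with `R` whose commutators with the elements of `E(X)` fixed by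
`R` modulo `O_p` have order prime to `p` maps each component into its `R`-orbit. -/
theorem exists_conj_eq [hp : Fact p.Prime] (h : pPrimeCore p X = ⊥) {R : Subgroup X} (hR : IsPGroup p ↥R)
    {d : X} (hd : ∀ r ∈ R, Commute d r)
    (hN : ∀ c ∈ layer X, c ∈ fixedMod p R → (orderOf (c⁻¹ * (d * c * d⁻¹))).Coprime p)
    {K : Subgroup X} (hK : IsComponent K) :
    ∃ r ∈ R, K.map (MulAut.conj d).toMonoidHom = K.map (MulAut.conj r).toMonoidHom := by
  by_contra hne
  push Not at hne
  set M : Subgroup X := ⨆ r : ↥R, K.map (MulAut.conj (r : X)).toMonoidHom with hM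
  set M' : Subgroup X := M.map (MulAut.conj d).toMonoidHom with hM'
  have hMK : ∀ r : ↥R, IsComponent (K.map (MulAut.conj (r : X)).toMonoidHom) := fun r =>
    Components.IsComponent.conj hK r
  have hML : M ≤ layer X := iSup_le fun r => Components.IsComponent.le_layer (hMK r)
  have hMsn : M.IsSubnormal := by
    refine Components.isSubnormal_of_normalized
      (inferInstance : (layer X).Normal).isSubnormal hML ?_
    exact (le_iInf fun r => sSup_le fun L hL => Components.IsComponent.le_normalizer hL (hMK r)).trans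
      (iInf_normalizer_le_normalizer_iSup _)
  have hcomm : M ≤ centralizer (M' : Set X) := by
    refine iSup_le fun r => Components.le_centralizer_of_commutator_eq_bot ?_
    rw [hM', hM, Subgroup.map_iSup, ← sSup_range]
    refine Components.commutator_sSup_eq_bot ?_
    rintro _ ⟨s, rfl⟩
    refine Components.IsComponent.commutator_eq_bot (hMK r) (Components.IsComponent.conj (hMK s) d) ?_
    intro he
    refine hne ((s : X)⁻¹ * r) (R.mul_mem (R.inv_mem s.2) r.2) ?_
    rw [map_conj_mul, he, ← map_conj_mul, ← map_conj_mul]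
    congr 3
    rw [mul_assoc, (hd s s.2).eq]; group
  have hRM : R ≤ normalizer (M : Set X) := by
    rw [le_normalizer_iff]
    intro r hr x hx
    refine Subgroup.iSup_induction (C := fun y => r * y * r⁻¹ ∈ M) _ hx ?_ (by simp) ?_
    · intro s y hy
      refine mem_iSup_of_mem ⟨r * s, R.mul_mem hr s.2⟩ ?_
      obtain ⟨k, hk, rfl⟩ := hy
      exact ⟨k, hk, by simp [mul_assoc]⟩
    · intro y z hy hz
      have := M.mul_mem hy hz
      simpa [mul_assoc] using this
  -- a fixed `p`-element of `M` outside `O_p`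
  have hKM : K ≤ M := fun k hk => mem_iSup_of_mem (1 : ↥R) ⟨k, hk, by simp⟩
  obtain ⟨c₀, hc₀K, hc₀p, hc₀Z⟩ := exists_pElement_component h hK
  set S₀ := R ⊔ M with hS₀
  obtain ⟨S, hS⟩ := (hR.of_equiv (subgroupOfEquivOfLe (le_sup_left : R ≤ S₀)).symm).exists_le_sylow
  set S' : Subgroup X := (S : Subgroup ↥S₀).map S₀.subtype with hS'
  have hS'p : IsPGroup p ↥S' := S.2.map _
  have hRS' : R ≤ S' := by
    rw [← map_subgroupOf_eq_of_le (le_sup_left : R ≤ S₀)]
    exact map_mono hS
  have hS₀M : S₀ ≤ normalizer (M : Set X) := sup_le hRM le_normalizer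
  have hS'M : S' ≤ normalizer (M : Set X) := (map_subtype_le _).trans hS₀M
  set q := QuotientGroup.mk' (pCore p X) with hq
  have hPne : ((S' ⊓ M).map q).subgroupOf (S'.map q) ≠ ⊥ := by
    intro hbot
    have hle : (S' ⊓ M).map q = ⊥ := by
      rw [← map_subgroupOf_eq_of_le (map_mono (inf_le_left : S' ⊓ M ≤ S') : (S' ⊓ M).map q ≤ S'.map q), hbot,
        Subgroup.map_bot]
    rw [Subgroup.map_eq_bot_iff, hq, QuotientGroup.ker_mk'] at hle
    obtain ⟨k, hk⟩ := hc₀p
    have hc₁ : IsPGroup p ↥(Subgroup.zpowers (⟨c₀, le_sup_right (a := R) (hKM hc₀K)⟩ : ↥S₀)) := by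
      obtain ⟨j, -, hj⟩ := (Nat.dvd_prime_pow hp.out).1 (orderOf_dvd_of_pow_eq_one hk)
      refine IsPGroup.of_card (n := j) ?_
      rw [Nat.card_zpowers, Subgroup.orderOf_mk, hj]
    obtain ⟨S₁, hS₁⟩ := hc₁.exists_le_sylow
    obtain ⟨g, hg⟩ := MulAction.exists_smul_eq ↥S₀ S₁ S
    have hcS₁ := Subgroup.smul_mem_pointwise_smul _ (MulAut.conj g) (S₁ : Subgroup ↥S₀)
      (hS₁ (Subgroup.mem_zpowers _))
    have hsub : MulAut.conj g • (S₁ : Subgroup ↥S₀) = (S : Subgroup ↥S₀) := congrArg Sylow.toSubgroup hg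
    rw [hsub] at hcS₁
    have hmem : (g : X) * c₀ * (g : X)⁻¹ ∈ S' ⊓ M := by
      refine ⟨⟨_, hcS₁, by simp [MulAut.smul_def]⟩, ?_⟩
      exact (mem_normalizer_iff.1 (hS₀M g.2) c₀).1 (hKM hc₀K)
    have := (Components.pCore_normal' (G := X) p).conj_mem _ (hle hmem) (g : X)⁻¹
    exact hc₀Z (by simpa [mul_assoc] using this)
  have hnorm : (((S' ⊓ M).map q).subgroupOf (S'.map q)).Normal := by
    refine normal_subgroupOf_of_le_normalizer ((map_mono ?_).trans (le_normalizer_map q))
    exact (le_inf le_normalizer hS'M).trans inf_normalizer_le_normalizer_inf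
  obtain ⟨w, hwM, hwc, hwo⟩ := PGroup.exists_orderOf_eq_mem_center (hS'p.map q) _ hPne
  obtain ⟨c, ⟨hcS, hcM⟩, hcw⟩ := hwM
  have hcZ : c ∉ pCore p X := by
    intro hc
    have h1 : (w : X ⧸ pCore p X) = 1 := hcw.symm.trans ((QuotientGroup.eq_one_iff _).2 hc)
    rw [← Subgroup.orderOf_coe, h1, orderOf_one] at hwo
    exact hp.out.ne_one hwo.symm
  have hcF : c ∈ fixedMod p R := by
    rw [mem_fixedMod]
    intro r hr
    refine (QuotientGroup.eq_one_iff _).1 ?_
    have := congrArg Subtype.val (mem_center_iff.1 hwc ⟨q r, mem_map_of_mem q (hRS' hr)⟩)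
    have h5 : q r * q c = q c * q r := by rw [hcw]; simpa using this
    show q (r * c * r⁻¹ * c⁻¹) = 1
    rw [map_mul, map_mul, map_mul, h5, map_inv, map_inv]
    group
  obtain ⟨k, hk⟩ := hS'p ⟨c, hcS⟩
  have hck : c ^ p ^ k = 1 := by simpa using congrArg Subtype.val hk
  have hc' : d * c * d⁻¹ ∈ M' := ⟨c, hcM, by simp⟩
  have hcc : Commute c⁻¹ (d * c * d⁻¹) :=
    (mem_centralizer_iff.1 (hcomm (M.inv_mem hcM)) _ hc').symm
  have hpow : (c⁻¹ * (d * c * d⁻¹)) ^ p ^ k = 1 := by
    rw [hcc.mul_pow, inv_pow, hck, inv_one, one_mul, conj_pow, hck, mul_one, mul_inv_cancel]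
  have hone : c⁻¹ * (d * c * d⁻¹) = 1 := orderOf_eq_one_iff.1
    (Nat.eq_one_of_dvd_coprimes ((hN c (hML hcM) hcF).pow_right k) dvd_rfl (orderOf_dvd_of_pow_eq_one hpow))
  have hceq : d * c * d⁻¹ = c := (inv_mul_eq_one.1 hone).symm
  exact hcZ (inf_centralizer_le_pCore h hMsn ⟨hcM, mem_centralizer_iff.2 fun x hx =>
    (mem_centralizer_iff.1 (hcomm hx) c (hceq ▸ hc')).symm⟩)

/-- An element of order prime to `p` mapping a component into its `R`-orbit and commuting with `R`
normalises it. -/
theorem mem_normalizer_of_conj_eq [hp : Fact p.Prime] {R : Subgroup X} (hR : IsPGroup p ↥R) {d : X}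
    (hd : ∀ r ∈ R, Commute d r) (hdo : (orderOf d).Coprime p) {K : Subgroup X}
    (h : ∃ r ∈ R, K.map (MulAut.conj d).toMonoidHom = K.map (MulAut.conj r).toMonoidHom) :
    d ∈ normalizer (K : Set X) := by
  obtain ⟨r, hr, he⟩ := h
  obtain ⟨k, hk⟩ := hR ⟨r, hr⟩
  have hrk : r ^ p ^ k = 1 := by simpa using congrArg Subtype.val hk
  have hu : r⁻¹ * d ∈ normalizer (K : Set X) := by
    refine mem_normalizer_of_map_conj_eq ?_
    rw [map_conj_mul, he, ← map_conj_mul, inv_mul_cancel]
    exact map_conj_eq_of_mem_normalizer (one_mem _)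
  have := (normalizer (K : Set X)).pow_mem hu (p ^ k)
  rw [((hd r hr).inv_right.symm).mul_pow, inv_pow, hrk, inv_one, one_mul] at this
  obtain ⟨m, hm⟩ := exists_pow_eq_self_of_coprime (hdo.pow_right k).symm
  exact hm ▸ (normalizer (K : Set X)).pow_mem this m

/-- `O_{p'}(C(R) ∩ C(O_p X))` normalises every component. -/
theorem mem_normalizer_of_mem_core' [hp : Fact p.Prime] (h : pPrimeCore p X = ⊥) {R : Subgroup X}
    (hR : IsPGroup p ↥R) {d : X} (hd : d ∈ core' p (centR p R)) {K : Subgroup X} (hK : IsComponent K) :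
    d ∈ normalizer (K : Set X) := by
  have hdR : ∀ r ∈ R, Commute d r := fun r hr =>
    (mem_centralizer_iff.1 (core'_le _ hd).1 r hr).symm
  refine mem_normalizer_of_conj_eq hR hdR (coprime_orderOf_of_mem_core' hd)
    (exists_conj_eq h hR hdR (fun c _ hc => ?_) hK)
  refine coprime_orderOf_of_mem_core' (H := centR p R) ?_
  have h1 := (mem_normalizer_iff''.1 (fixedMod_le_normalizer_core' R hc) d).1 hd
  simpa [mul_assoc] using mul_mem h1 (inv_mem hd)

/-- An element normalising a perfect subgroup and fixing it modulo its centre fixes it. -/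
theorem commute_of_commutator_central {K : Subgroup X} (hK : ⁅K, K⁆ = K) {n : X}
    (hn : ∀ x ∈ K, ∀ y ∈ K, Commute (n * x * n⁻¹ * x⁻¹) y) (hnK : ∀ x ∈ K, n * x * n⁻¹ ∈ K) :
    ∀ x ∈ K, Commute n x := by
  suffices ⁅K, K⁆ ≤ centralizer ({n} : Set X) by
    intro x hx
    rw [hK] at this
    exact (mem_centralizer_singleton_iff.1 (this hx) : x * n = n * x).symm
  rw [Subgroup.commutator_le]
  intro x hx y hy
  rw [mem_centralizer_singleton_iff]
  have ha : n * x * n⁻¹ * x⁻¹ ∈ K := K.mul_mem (hnK x hx) (K.inv_mem hx)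
  set a := n * x * n⁻¹ * x⁻¹ with hadef
  set b := n * y * n⁻¹ * y⁻¹ with hbdef
  have hax : n * x * n⁻¹ = a * x := by rw [hadef]; group
  have hby : n * y * n⁻¹ = b * y := by rw [hbdef]; group
  have hb : b ∈ K := K.mul_mem (hnK y hy) (K.inv_mem hy)
  have e : n * ⁅x, y⁆ * n⁻¹ = ⁅x, y⁆ := by
    have h1 : n * ⁅x, y⁆ * n⁻¹ = ⁅a * x, b * y⁆ := by
      rw [← hax, ← hby, ← MulAut.conj_apply, map_commutatorElement, MulAut.conj_apply, MulAut.conj_apply]
    rw [h1, commutatorElement_def, commutatorElement_def]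
    have c1 : Commute a (b * y) := hn x hx _ (K.mul_mem hb hy)
    have c2 : Commute b x := hn y hy x hx
    have c4 : Commute a b := hn x hx b hb
    have c5 : Commute a y⁻¹ := hn x hx _ (K.inv_mem hy)
    have c6 : Commute (a * b) (x * y * x⁻¹ * y⁻¹) := by
      have hxy : x * y * x⁻¹ * y⁻¹ ∈ K := K.mul_mem (K.mul_mem (K.mul_mem hx hy) (K.inv_mem hx)) (K.inv_mem hy)
      exact (hn x hx _ hxy).mul_left (hn y hy _ hxy)
    clear_value a b
    calc a * x * (b * y) * (a * x)⁻¹ * (b * y)⁻¹
        = a * (x * b) * y * x⁻¹ * (a⁻¹ * y⁻¹) * b⁻¹ := by group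
      _ = a * (b * x) * y * x⁻¹ * (y⁻¹ * a⁻¹) * b⁻¹ := by rw [c2.eq, c5.inv_left.eq]
      _ = a * b * (x * y * x⁻¹ * y⁻¹) * (b * a)⁻¹ := by group
      _ = x * y * x⁻¹ * y⁻¹ := by rw [c6.eq, c4.eq]; group
  exact (mul_inv_eq_iff_eq_mul.1 e).symm

/-- `O_{p'}(C(b) ∩ C(O_p X))` centralises a component centralised by `b`. -/
theorem commute_of_fixed [hp : Fact p.Prime] (h : pPrimeCore p X = ⊥) {b : X} {n : X}
    (hb : IsPGroup p ↥(Subgroup.zpowers b)) (hn : n ∈ core' p (centR p (Subgroup.zpowers b)))
    {K : Subgroup X} (hK : IsComponent K) (hbK : ∀ x ∈ K, Commute b x) : ∀ x ∈ K, Commute n x := by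
  set N := core' p (centR p (Subgroup.zpowers b)) with hNdef
  have hKC : K ≤ centR p (Subgroup.zpowers b) := by
    refine le_inf (fun x hx => mem_centralizer_iff.2 ?_)
      (fun x hx => mem_centralizer_iff.2 fun z hz =>
        (commute_layer_pCore (Components.IsComponent.le_layer hK hx) hz).eq.symm)
    rintro _ ⟨i, rfl⟩
    exact ((hbK x hx).zpow_left i).eq
  have hKN : K ≤ normalizer (N : Set X) := hKC.trans (le_normalizer_core' _)
  have hnK : n ∈ normalizer (K : Set X) := mem_normalizer_of_mem_core' h hb hn hK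
  refine commute_of_commutator_central (Components.IsComponent.commutator_self hK) (fun x hx y hy => ?_)
    fun x hx => (mem_normalizer_iff.1 hnK x).1 hx
  have hw : n * x * n⁻¹ * x⁻¹ ∈ K ⊓ N := by
    refine ⟨K.mul_mem ((mem_normalizer_iff.1 hnK x).1 hx) (K.inv_mem hx), ?_⟩
    have := N.mul_mem hn ((mem_normalizer_iff.1 (hKN hx) _).1 (N.inv_mem hn))
    simpa [mul_assoc] using this
  rcases Components.IsQuasisimple.eq_or_commutator_eq_bot hK.2 (inf_le_left : K ⊓ N ≤ K)
    ((le_inf le_normalizer hKN).trans inf_normalizer_le_normalizer_inf) with he | he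
  · exfalso
    obtain ⟨c, hc, ⟨k, hk⟩, hcZ⟩ := exists_pElement_component h hK
    have hcN : c ∈ N := (he.symm ▸ hc : c ∈ K ⊓ N).2
    have : c = 1 := orderOf_eq_one_iff.1 (Nat.eq_one_of_dvd_coprimes
      ((coprime_orderOf_of_mem_core' hcN).pow_right k) dvd_rfl (orderOf_dvd_of_pow_eq_one hk))
    exact hcZ (this ▸ one_mem _)
  · exact (mem_centralizer_iff.1 (Components.le_centralizer_of_commutator_eq_bot he hy) _ hw)

/-- `O_{p'}(C(b) ∩ C(O_p X))` centralises a component moved by the element `b` of order `p`. -/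
theorem commute_of_moved [hp : Fact p.Prime] (h : pPrimeCore p X = ⊥) {b : X} (hb : b ^ p = 1) {n : X}
    (hn : n ∈ core' p (centR p (Subgroup.zpowers b))) {K : Subgroup X} (hK : IsComponent K)
    (hbK : b ∉ normalizer (K : Set X)) : ∀ x ∈ K, Commute n x := by
  obtain ⟨m, hm⟩ : ∃ m, p = m + 1 := ⟨p - 1, (Nat.succ_pred_eq_of_pos hp.out.pos).symm⟩
  set R := Subgroup.zpowers b with hRdef
  set N := core' p (centR p R) with hNdef
  have hbp : IsPGroup p ↥R := fun x => ⟨1, Subtype.ext (by
    obtain ⟨i, hi⟩ := x.2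
    simp only [SubmonoidClass.coe_pow, OneMemClass.coe_one, pow_one]
    rw [← hi, ← zpow_natCast, ← zpow_mul, mul_comm, zpow_mul, zpow_natCast, hb, one_zpow])⟩
  set f : ℕ → X → X := fun i x => b ^ i * x * (b ^ i)⁻¹ with hf
  have fmul : ∀ i x y, f i (x * y) = f i x * f i y := fun i x y => by simp only [hf]; group
  set u : ℕ → X → X := fun j x => ((List.range j).map fun i => f i x).prod with hu
  have usucc : ∀ j x, u (j + 1) x = u j x * f j x := fun j x => by
    simp [hu, List.range_succ]
  have usucc' : ∀ j x, u (j + 1) x = f 0 x * ((List.range j).map fun i => f (i + 1) x).prod := fun j x => by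
    simp [hu, List.range_succ_eq_map, List.map_map, Function.comp_def]
  -- distinct translates commute
  have hdist : ∀ i, 0 < i → i < p → ∀ x ∈ K, ∀ y ∈ K, Commute y (f i x) := by
    intro i hi0 hip x hx y hy
    have hne : K.map (MulAut.conj (b ^ i)).toMonoidHom ≠ K := by
      intro he
      apply hbK
      have hcop : i.Coprime (orderOf b) := Nat.Coprime.coprime_dvd_right (orderOf_dvd_of_pow_eq_one hb)
        ((Nat.coprime_comm).1 ((hp.out.coprime_iff_not_dvd).2 (Nat.not_dvd_of_pos_of_lt hi0 hip)))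
      obtain ⟨k, hk⟩ := exists_pow_eq_self_of_coprime hcop
      exact hk ▸ (normalizer (K : Set X)).pow_mem (mem_normalizer_of_map_conj_eq he) k
    have := Components.IsComponent.commutator_eq_bot hK (Components.IsComponent.conj hK (b ^ i)) hne.symm
    exact (mem_centralizer_iff.1 (Components.le_centralizer_of_commutator_eq_bot this hy) (f i x)
      ⟨x, hx, by simp only [hf, MulEquiv.coe_toMonoidHom, MulAut.conj_apply]⟩).symm
  have hdist' : ∀ i j, i < j → j < p → ∀ x ∈ K, ∀ y ∈ K, Commute (f i y) (f j x) := by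
    intro i j hij hjp x hx y hy
    have := (hdist (j - i) (by omega) (by omega) x hx y hy).map (MulAut.conj (b ^ i)).toMonoidHom
    have e : b ^ j = b ^ i * b ^ (j - i) := by rw [← pow_add]; congr 1; omega
    have e2 : f j x = MulAut.conj (b ^ i) (f (j - i) x) := by
      simp only [hf, MulAut.conj_apply, e]; group
    rw [e2]
    exact this
  have umul : ∀ j, j ≤ p → ∀ x ∈ K, ∀ y ∈ K, u j (x * y) = u j x * u j y := by
    intro j hj x hx y hy
    induction j with
    | zero => simp [hu]
    | succ j ih =>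
      have hc : Commute (u j y) (f j x) := by
        refine Commute.list_prod_left _ _ fun z hz => ?_
        obtain ⟨i, hi, rfl⟩ := List.mem_map.1 hz
        exact hdist' i j (List.mem_range.1 hi) (by omega) x hx y hy
      rw [usucc, usucc, usucc, ih (by omega), fmul]
      calc u j x * u j y * (f j x * f j y) = u j x * (u j y * f j x) * f j y := by group
        _ = u j x * (f j x * u j y) * f j y := by rw [hc.eq]
        _ = _ := by group
  set rest : X → X := fun x => ((List.range m).map fun i => f (i + 1) x).prod with hrest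
  have urest : ∀ x, u p x = x * rest x := fun x => by rw [hm, usucc']; simp [hf, hrest]
  have hrestK : ∀ x ∈ K, ∀ y ∈ K, Commute y (rest x) := fun x hx y hy =>
    Commute.list_prod_right _ _ fun z hz => by
      obtain ⟨i, hi, rfl⟩ := List.mem_map.1 hz
      exact hdist (i + 1) (by omega) (by have := List.mem_range.1 hi; omega) x hx y hy
  have uR : ∀ x ∈ K, ∀ r ∈ R, Commute r (u p x) := by
    intro x hx r hr
    obtain ⟨i, rfl⟩ := hr
    refine Commute.zpow_left ?_ i
    have hconj : MulAut.conj b (u p x) = u p x := by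
      have hsh : MulAut.conj b (u p x) = ((List.range p).map fun i => f (i + 1) x).prod := by
        simp only [hu]
        rw [map_list_prod, List.map_map]
        congr 1
        refine List.map_congr_left fun i _ => ?_
        simp only [Function.comp_apply, hf, MulAut.conj_apply, pow_succ']
        group
      have hfp : f (m + 1) x = x := by simp [hf, ← hm, hb]
      rw [hsh, urest, hm, List.range_succ, List.map_append, List.prod_append]
      simp only [List.map_cons, List.map_nil, List.prod_cons, List.prod_nil, mul_one, hfp]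
      exact (hrestK x hx x hx).eq.symm
    exact mul_inv_eq_iff_eq_mul.1 (by simpa using hconj)
  have uF : ∀ x ∈ K, u p x ∈ fixedMod p R := by
    intro x hx
    rw [mem_fixedMod]
    intro r hr
    rw [(uR x hx r hr).eq]
    simp
  have hnK : n ∈ normalizer (K : Set X) := mem_normalizer_of_mem_core' h hbp hn hK
  have hnb : ∀ i : ℕ, Commute n (b ^ i) := fun i =>
    Commute.pow_right (show Commute n b from (mem_centralizer_iff.1 (core'_le _ hn).1 b (Subgroup.mem_zpowers b)).symm) i
  have un : ∀ x ∈ K, n * u p x * n⁻¹ = u p (n * x * n⁻¹) := by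
    intro x _
    rw [← MulAut.conj_apply]
    simp only [hu]
    rw [map_list_prod, List.map_map]
    congr 1
    refine List.map_congr_left fun i _ => ?_
    simp only [Function.comp_apply, hf, MulAut.conj_apply]
    calc n * (b ^ i * x * (b ^ i)⁻¹) * n⁻¹ = (n * b ^ i) * x * (n * b ^ i)⁻¹ := by group
      _ = (b ^ i * n) * x * (b ^ i * n)⁻¹ := by rw [(hnb i).eq]
      _ = _ := by group
  let S : Subgroup X :=
    { carrier := {x | x ∈ K ∧ u p x ∈ N}
      one_mem' := ⟨one_mem _, by simp [hu, hf]⟩
      mul_mem' := fun {x y} hx hy => ⟨mul_mem hx.1 hy.1, by rw [umul p le_rfl x hx.1 y hy.1]; exact mul_mem hx.2 hy.2⟩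
      inv_mem' := fun {x} hx => ⟨inv_mem hx.1, by
        have h1 := umul p le_rfl x hx.1 x⁻¹ (inv_mem hx.1)
        rw [mul_inv_cancel] at h1
        have h2 : u p 1 = 1 := by simp [hu, hf]
        rw [h2] at h1
        rw [eq_inv_of_mul_eq_one_right h1.symm]
        exact inv_mem hx.2⟩ }
  have hKS : K ≤ normalizer (S : Set X) := by
    rw [le_normalizer_iff]
    intro y hy x hx
    refine ⟨K.mul_mem (K.mul_mem hy hx.1) (K.inv_mem hy), ?_⟩
    have h1 := umul p le_rfl y hy y⁻¹ (inv_mem hy)
    rw [mul_inv_cancel] at h1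
    have h2 : u p 1 = 1 := by simp [hu, hf]
    rw [h2] at h1
    rw [umul p le_rfl (y * x) (mul_mem hy hx.1) y⁻¹ (inv_mem hy), umul p le_rfl y hy x hx.1,
      eq_inv_of_mul_eq_one_right h1.symm]
    exact (mem_normalizer_iff.1 (fixedMod_le_normalizer_core' R (uF y hy)) _).1 hx.2
  refine commute_of_commutator_central (Components.IsComponent.commutator_self hK) (fun x hx y hy => ?_)
    fun x hx => (mem_normalizer_iff.1 hnK x).1 hx
  have hnx : n * x * n⁻¹ ∈ K := (mem_normalizer_iff.1 hnK x).1 hx
  have hwS : n * x * n⁻¹ * x⁻¹ ∈ S := by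
    refine ⟨K.mul_mem hnx (K.inv_mem hx), ?_⟩
    have h1 := umul p le_rfl x hx x⁻¹ (inv_mem hx)
    rw [mul_inv_cancel] at h1
    have h2 : u p 1 = 1 := by simp [hu, hf]
    rw [h2] at h1
    rw [umul p le_rfl _ hnx x⁻¹ (inv_mem hx), ← un x hx, eq_inv_of_mul_eq_one_right h1.symm]
    have h3 := (mem_normalizer_iff.1 (fixedMod_le_normalizer_core' R (uF x hx)) _).1 (inv_mem hn)
    simpa [mul_assoc] using N.mul_mem hn h3
  rcases Components.IsQuasisimple.eq_or_commutator_eq_bot hK.2 (fun x hx => hx.1 : S ≤ K) hKS with he | he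
  · exfalso
    obtain ⟨c, hc, ⟨k, hk⟩, hcZ⟩ := exists_pElement_component h hK
    have hcS : u p c ∈ N := (he.symm ▸ hc : c ∈ S).2
    have hpow : ∀ t : ℕ, u p (c ^ t) = (u p c) ^ t := by
      intro t
      induction t with
      | zero => simp [hu, hf]
      | succ t ih => rw [pow_succ, pow_succ, umul p le_rfl _ (K.pow_mem hc t) _ hc, ih]
    have h1 : u p c ^ p ^ k = 1 := by rw [← hpow, hk]; simp [hu, hf]
    have h2 : u p c = 1 := orderOf_eq_one_iff.1 (Nat.eq_one_of_dvd_coprimes
      ((coprime_orderOf_of_mem_core' hcS).pow_right k) dvd_rfl (orderOf_dvd_of_pow_eq_one h1))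
    rw [urest] at h2
    refine hcZ (inf_centralizer_le_pCore h hK.1 ⟨hc, mem_centralizer_iff.2 fun y hy => ?_⟩)
    have := (hrestK c hc y hy).inv_right
    rw [← eq_inv_of_mul_eq_one_left h2] at this
    exact this.eq
  · exact (mem_centralizer_iff.1 (Components.le_centralizer_of_commutator_eq_bot he hy) _ hwS)

end Cfsg.Agent.Balance
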