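import Mathlib
import Cfsg.Prelude.Def_Local
import Cfsg.Agent.Lib.Balance.Components

/-!
# p-components

* `pGen p H`: the subgroup generated by the elements of `p`-power order of `H`;
* `IsPQT p J`: `J` is perfect, generated by its elements of `p`-power order, nontrivial, and each subgroup it
  normalises is `J` or is central modulo a `p'`-group;
* a p-component is `IsPQT`, is `pGen` of the preimage of its image, and exists over every component;
* `IsPQT.le_or_commutator_le`: a subnormal `IsPQT` subgroup lies in a normal subgroup or commutes with it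
  modulo `O_{p'}`;
* `map_normalizer_of_coprime_ker`: the Frattini argument for a `p`-group modulo a `p'`-group.
-/

namespace Cfsg.Agent.Balance

open Subgroup
open scoped commutatorElement

variable {X X' : Type*} [Group X] [Group X'] {p : ℕ}

/-- The subgroup generated by the elements of `p`-power order of `H`. -/
def pGen (p : ℕ) (H : Subgroup X) : Subgroup X :=
  closure {y | y ∈ H ∧ ∃ k : ℕ, y ^ p ^ k = 1}

theorem pGen_le (H : Subgroup X) : pGen p H ≤ H := (closure_le _).2 fun _ h => h.1

theorem mem_pGen {H : Subgroup X} {y : X} (hy : y ∈ H) {k : ℕ} (hk : y ^ p ^ k = 1) : y ∈ pGen p H :=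
  subset_closure ⟨hy, k, hk⟩

theorem pGen_le_iff {H U : Subgroup X} :
    pGen p H ≤ U ↔ ∀ y ∈ H, (∃ k : ℕ, y ^ p ^ k = 1) → y ∈ U :=
  (closure_le U).trans ⟨fun h y hy hk => h ⟨hy, hk⟩, fun h y hy => h y hy.1 hy.2⟩

theorem map_pGen_le (f : X →* X') (H : Subgroup X) : (pGen p H).map f ≤ pGen p (H.map f) :=
  map_le_iff_le_comap.2 <| pGen_le_iff.2 fun y hy ⟨k, hk⟩ =>
    mem_pGen (k := k) (mem_map_of_mem f hy) (by rw [← map_pow, hk, map_one])

theorem normalizer_le_normalizer_pGen (H : Subgroup X) :
    normalizer (H : Set X) ≤ normalizer (pGen p H : Set X) := by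
  rw [le_normalizer_iff]
  intro g hg y hy
  have h : pGen p H ≤ (pGen p H).comap (MulAut.conj g).toMonoidHom :=
    pGen_le_iff.2 fun z hz ⟨k, hk⟩ => by
      refine mem_pGen (k := k) ?_ ?_
      · simpa using (mem_normalizer_iff.1 hg z).1 hz
      · rw [← map_pow, hk, map_one]
  simpa using h hy

theorem exists_pElement_of_le_pGen {J : Subgroup X} (hgen : J ≤ pGen p J) (hne : J ≠ ⊥) :
    ∃ y ∈ J, y ≠ 1 ∧ ∃ k : ℕ, y ^ p ^ k = 1 := by
  by_contra h
  push Not at h
  refine hne (le_bot_iff.1 (hgen.trans (pGen_le_iff.2 fun y hy ⟨k, hk⟩ => ?_)))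
  by_contra hy1
  exact h y hy hy1 k hk

/-- A subnormal subgroup of index prime to `p` contains every element of `p`-power order. -/
theorem mem_of_pow_eq_one_of_coprime_index [Finite X] {H : Subgroup X} (hH : H.IsSubnormal)
    (hc : H.index.Coprime p) {y : X} {k : ℕ} (hy : y ^ p ^ k = 1) : y ∈ H := by
  induction hH with
  | top => exact mem_top y
  | step K H hle hH hN ih =>
    rw [← relIndex_mul_index hle] at hc
    have hyH : y ∈ H := ih hc.coprime_mul_left
    set z : ↥H := ⟨y, hyH⟩
    have hz : z ^ K.relIndex H ∈ K.subgroupOf H := by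
      rw [← QuotientGroup.eq_one_iff, QuotientGroup.mk_pow]
      exact pow_card_eq_one'
    have hcop : (K.relIndex H).Coprime (orderOf y) :=
      (hc.coprime_mul_right.pow_right k).coprime_dvd_right (orderOf_dvd_of_pow_eq_one hy)
    obtain ⟨m, hm⟩ := exists_pow_eq_self_of_coprime hcop
    rw [← hm]
    exact K.pow_mem (mem_subgroupOf.1 hz) m

/-- Elements of `p`-power order of `J O` lie in the subnormal `J`, for a normal `p'`-subgroup `O`. -/
theorem mem_of_mem_sup [Finite X] {J O : Subgroup X} [O.Normal] (hJ : J.IsSubnormal)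
    (hO : (Nat.card ↥O).Coprime p) {y : X} (hy : y ∈ J ⊔ O) {k : ℕ} (hk : y ^ p ^ k = 1) : y ∈ J := by
  have hdvd : J.relIndex (J ⊔ O) ∣ Nat.card ↥O := by
    have h1 := relIndex_mul_relIndex ⊥ J (J ⊔ O) bot_le le_sup_left
    rw [relIndex_bot_left, relIndex_bot_left] at h1
    have h2 := PCore.card_sup_dvd O J
    rw [sup_comm, ← h1, mul_comm (Nat.card ↥O)] at h2
    exact Nat.dvd_of_mul_dvd_mul_left Nat.card_pos h2
  have hk' : (⟨y, hy⟩ : ↥(J ⊔ O)) ^ p ^ k = 1 := Subtype.ext (by simpa using hk)
  exact mem_subgroupOf.1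
    (mem_of_pow_eq_one_of_coprime_index hJ.subgroupOf (hO.coprime_dvd_left hdvd) hk')

/-- A perfect subgroup lies in every subgroup it normalises that contains its elements of order prime to `p`. -/
theorem le_of_forall_coprime_mem [Finite X] [Fact p.Prime] {J U : Subgroup X} (hJ : ⁅J, J⁆ = J)
    (hU : J ≤ normalizer (U : Set X)) (h : ∀ y ∈ J, (orderOf y).Coprime p → y ∈ U) : J ≤ U := by
  have : Group.IsPerfect ↥J := isPerfect_iff.mpr hJ
  have : (U.subgroupOf J).Normal := normal_subgroupOf_of_le_normalizer hU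
  set Q := ↥J ⧸ U.subgroupOf J
  have hQ : IsPGroup p Q := by
    intro q
    obtain ⟨x, rfl⟩ := QuotientGroup.mk_surjective q
    have hp : p.Prime := Fact.out
    have hn : orderOf (x : X) ≠ 0 := (orderOf_pos _).ne'
    refine ⟨(orderOf (x : X)).factorization p, ?_⟩
    rw [← QuotientGroup.mk_pow, QuotientGroup.eq_one_iff, mem_subgroupOf, SubmonoidClass.coe_pow]
    refine h _ (J.pow_mem x.2 _) ?_
    rw [orderOf_pow_of_dvd (pow_ne_zero _ hp.ne_zero) (Nat.ordProj_dvd _ _)]
    exact (Nat.coprime_ordCompl hp hn).symm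
  have := hQ.isNilpotent
  rcases subsingleton_or_nontrivial Q with hs | hn
  · intro x hx
    exact mem_subgroupOf.1 ((QuotientGroup.eq_one_iff (⟨x, hx⟩ : ↥J)).1 (Subsingleton.elim _ _))
  · exact absurd (inferInstance : Group.IsNilpotent Q) (Group.IsPerfect.not_isNilpotent Q)

/-- Perfect, generated by elements of `p`-power order, nontrivial, and quasisimple modulo `O_{p'}`. -/
structure IsPQT (p : ℕ) (J : Subgroup X) : Prop where
  perfect : ⁅J, J⁆ = J
  gen : J ≤ pGen p J
  ne_bot : J ≠ ⊥
  normal_alt : ∀ M : Subgroup X, M ≤ J → J ≤ normalizer (M : Set X) →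
    M = J ∨ (Nat.card ↥⁅M, J⁆).Coprime p

theorem IsPQT.not_coprime [Finite X] [hp : Fact p.Prime] {J : Subgroup X} (h : IsPQT p J) :
    ¬ (Nat.card ↥J).Coprime p := by
  intro hc
  obtain ⟨y, hy, hy1, k, hk⟩ := exists_pElement_of_le_pGen h.gen h.ne_bot
  exact hy1 (orderOf_eq_one_iff.1 (Nat.eq_one_of_dvd_coprimes
    ((hc.coprime_dvd_left (Subgroup.orderOf_dvd_natCard J hy)).pow_right k) dvd_rfl
    (orderOf_dvd_of_pow_eq_one hk)))

theorem IsPQT.not_le_pGroup [Finite X] [Fact p.Prime] {J R : Subgroup X} (h : IsPQT p J)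
    (hR : IsPGroup p ↥R) : ¬ J ≤ R := by
  intro hle
  refine h.ne_bot (le_bot_iff.1 (le_of_forall_coprime_mem (p := p) h.perfect ?_ fun y hy hc => ?_))
  · exact le_of_le_of_eq le_top (normalizer_eq_top (H := (⊥ : Subgroup X))).symm
  · exact mem_bot.2 (eq_one_of_mem_pGroup_of_coprime hR (hle hy) hc)

theorem IsPQT.map {J : Subgroup X} (h : IsPQT p J) (f : X →* X') (hne : J.map f ≠ ⊥) :
    IsPQT p (J.map f) where
  perfect := by rw [← map_commutator, h.perfect]
  gen := (map_mono h.gen).trans (map_pGen_le f J)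
  ne_bot := hne
  normal_alt M' hM' hN' := by
    have hMap : (J ⊓ M'.comap f).map f = M' := by
      refine le_antisymm ((map_mono inf_le_right).trans (map_comap_le _ _)) fun y hy => ?_
      obtain ⟨x, hx, rfl⟩ := hM' hy
      exact ⟨x, ⟨hx, hy⟩, rfl⟩
    rcases h.normal_alt (J ⊓ M'.comap f) inf_le_left (by
      rw [le_normalizer_iff]
      intro x hx m hm
      refine ⟨J.mul_mem (J.mul_mem hx hm.1) (J.inv_mem hx), ?_⟩
      show f (x * m * x⁻¹) ∈ M'
      rw [map_mul, map_mul, map_inv]
      exact (mem_normalizer_iff.1 (hN' (mem_map_of_mem f hx)) _).1 hm.2) with he | hc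
    · exact Or.inl (hMap.symm.trans (by rw [he]))
    · right
      rw [← hMap, ← map_commutator]
      exact hc.coprime_dvd_left (card_map_dvd _ _)

theorem IsPQT.subgroupOf {J H : Subgroup X} (h : IsPQT p J) (hle : J ≤ H) :
    IsPQT p (J.subgroupOf H) where
  perfect := map_injective H.subtype_injective (by
    rw [map_commutator, map_subgroupOf_eq_of_le hle, h.perfect])
  gen := by
    rw [← map_le_map_iff_of_injective H.subtype_injective, map_subgroupOf_eq_of_le hle]
    refine h.gen.trans (pGen_le_iff.2 fun y hy ⟨k, hk⟩ => ?_)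
    exact ⟨⟨y, hle hy⟩, mem_pGen (k := k) hy (Subtype.ext (by simpa using hk)), rfl⟩
  ne_bot := fun he => h.ne_bot (by
    rw [← map_subgroupOf_eq_of_le hle, he, Subgroup.map_bot])
  normal_alt M hM hN := by
    rcases h.normal_alt (M.map H.subtype)
      ((map_mono hM).trans (map_subgroupOf_eq_of_le hle).le) (by
        rw [le_normalizer_iff]
        rintro x hx _ ⟨m, hm, rfl⟩
        exact ⟨_, (mem_normalizer_iff.1 (hN (x := ⟨x, hle hx⟩) hx) m).1 hm, by simp⟩) with he | hc
    · exact Or.inl (map_injective H.subtype_injective (he.trans (map_subgroupOf_eq_of_le hle).symm))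
    · right
      rw [← card_map_of_injective H.subtype_injective, map_commutator, map_subgroupOf_eq_of_le hle]
      exact hc

theorem map_conj_one (K : Subgroup X) : K.map (MulAut.conj (1 : X)).toMonoidHom = K := by
  ext x; simp

variable [Finite X] [Fact p.Prime]

/-- A subnormal `IsPQT` subgroup maps to a component of `X / O_{p'}(X)`. -/
theorem IsPQT.isComponent_map {J : Subgroup X} (h : IsPQT p J) (hJ : J.IsSubnormal) :
    IsComponent (J.map (QuotientGroup.mk' (pPrimeCore p X))) := by
  set q := QuotientGroup.mk' (pPrimeCore p X) with hq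
  have hne : J.map q ≠ ⊥ := fun he => h.not_coprime
    (PCore.coprime_card_pPrimeCore.coprime_dvd_left (Subgroup.card_dvd_of_le (by
      rwa [Subgroup.map_eq_bot_iff, hq, QuotientGroup.ker_mk'] at he)))
  have h' := h.map q hne
  have : Group.IsPerfect ↥(J.map q) := isPerfect_iff.mpr h'.perfect
  have : Nontrivial ↥(J.map q) := (nontrivial_iff_ne_bot _).mpr hne
  refine ⟨hJ.map (QuotientGroup.mk'_surjective _), Components.isQuasisimple_of_normal_central fun M hM => ?_⟩
  set M' := M.map (J.map q).subtype with hM'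
  have hle : M' ≤ J.map q := map_subtype_le M
  have hN : J.map q ≤ normalizer (M' : Set (X ⧸ pPrimeCore p X)) := by
    rw [le_normalizer_iff]
    rintro x hx _ ⟨m, hm, rfl⟩
    exact ⟨⟨x, hx⟩ * m * ⟨x, hx⟩⁻¹, hM.conj_mem m hm _, by simp⟩
  rcases h'.normal_alt M' hle hN with he | hc
  · left
    rw [eq_top_iff]
    intro x _
    obtain ⟨m, hm, hmx⟩ : (x : X ⧸ pPrimeCore p X) ∈ M' := he.symm ▸ x.2
    exact Subtype.ext hmx ▸ hm
  · right
    have hsn : ⁅M', J.map q⁆.IsSubnormal := by
      refine Components.isSubnormal_of_normalized (hJ.map (QuotientGroup.mk'_surjective _))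
        ((commutator_mono hle le_rfl).trans (J.map q).commutator_le_self) ?_
      exact normalizer_commutator_ge_right M' (J.map q)
    have hbot : ⁅M', J.map q⁆ = ⊥ := le_bot_iff.1 (by
      have h1 := le_core' (le_refl ⁅M', J.map q⁆) le_normalizer hc
      exact (h1.trans (core'_le_pPrimeCore_of_isSubnormal hsn)).trans
        (PCore.pPrimeCore_quotient_self_eq_bot).le)
    intro m hm
    rw [mem_center_iff]
    intro x
    exact Subtype.ext (mem_centralizer_iff.1
      (commutator_eq_bot_iff_le_centralizer.1 hbot (mem_map_of_mem _ hm)) x x.2)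

/-- A subnormal `IsPQT` subgroup lies in a normal subgroup or commutes with it modulo `O_{p'}`. -/
theorem IsPQT.le_or_commutator_le_of_normal {J M : Subgroup X} [M.Normal] (h : IsPQT p J)
    (hJ : J.IsSubnormal) : J ≤ M ∨ ⁅J, M⁆ ≤ pPrimeCore p X := by
  set q := QuotientGroup.mk' (pPrimeCore p X) with hq
  have : (M.map q).Normal := Subgroup.Normal.map inferInstance q (QuotientGroup.mk'_surjective _)
  rcases Components.IsComponent.le_or_commutator_eq_bot_of_normal (h.isComponent_map hJ) (M.map q) with he | he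
  · left
    rw [Subgroup.map_le_map_iff, QuotientGroup.ker_mk'] at he
    refine h.gen.trans (pGen_le_iff.2 fun y hy ⟨k, hk⟩ => ?_)
    exact mem_of_mem_sup (inferInstance : M.Normal).isSubnormal PCore.coprime_card_pPrimeCore (he hy) hk
  · right
    rwa [← map_commutator, Subgroup.map_eq_bot_iff, QuotientGroup.ker_mk'] at he

theorem IsPQT.le_or_commutator_le {J M H : Subgroup X} (h : IsPQT p J) (hJH : J ≤ H) (hMH : M ≤ H)
    (hJ : (J.subgroupOf H).IsSubnormal) (hM : H ≤ normalizer (M : Set X)) :
    J ≤ M ∨ ⁅J, M⁆ ≤ core' p H := by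
  have : (M.subgroupOf H).Normal := normal_subgroupOf_of_le_normalizer hM
  rcases (h.subgroupOf hJH).le_or_commutator_le_of_normal hJ (M := M.subgroupOf H) with he | he
  · exact Or.inl ((map_subgroupOf_eq_of_le hJH).ge.trans ((map_mono he).trans (map_subgroupOf_eq_of_le hMH).le))
  · right
    have := map_mono (f := H.subtype) he
    rwa [map_commutator, map_subgroupOf_eq_of_le hJH, map_subgroupOf_eq_of_le hMH] at this

/-- A p-component is perfect, generated by its elements of `p`-power order and quasisimple modulo `O_{p'}`. -/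
theorem isPQT_of_isPComponent {J : Subgroup X} (hJ : IsPComponent p J) : IsPQT p J := by
  obtain ⟨hsn, hcomp, hmin⟩ := hJ
  set q := QuotientGroup.mk' (pPrimeCore p X) with hq
  have halt : ∀ M : Subgroup X, M ≤ J → J ≤ normalizer (M : Set X) →
      M = J ∨ ⁅M.map q, J.map q⁆ = ⊥ := by
    intro M hle hN
    rcases Components.IsQuasisimple.eq_or_commutator_eq_bot hcomp.2 (map_mono hle : M.map q ≤ J.map q)
      ((map_mono hN).trans (le_normalizer_map q)) with he | he
    · exact Or.inl (hmin M (Components.isSubnormal_of_normalized hsn hle hN) hle he)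
    · exact Or.inr (Components.commutator_eq_bot_symm he)
  refine ⟨?_, ?_, fun he => Components.IsComponent.ne_bot hcomp (by rw [he, Subgroup.map_bot]), ?_⟩
  · refine hmin _ (Components.isSubnormal_commutator_self hsn) J.commutator_le_self ?_
    rw [map_commutator]
    exact Components.IsComponent.commutator_self hcomp
  · rcases halt (pGen p J) (pGen_le J) (le_normalizer.trans (normalizer_le_normalizer_pGen J)) with he | he
    · exact he.ge
    · exfalso
      obtain ⟨c, hc, ⟨k, hk⟩, hcZ⟩ :=
        exists_pElement_component (p := p) PCore.pPrimeCore_quotient_self_eq_bot hcomp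
      obtain ⟨x, hx, rfl⟩ := hc
      -- a `p`-element of `J` with the same image
      set n := orderOf x with hn
      have hp : p.Prime := Fact.out
      have hn0 : n ≠ 0 := (orderOf_pos x).ne'
      set m := n / p ^ n.factorization p with hm
      have hcop : m.Coprime (orderOf (q x)) :=
        ((Nat.coprime_ordCompl hp hn0).symm.pow_right k).coprime_dvd_right (orderOf_dvd_of_pow_eq_one hk)
      obtain ⟨i, hi⟩ := exists_pow_eq_self_of_coprime hcop
      have hy : ((x ^ m) ^ i) ^ p ^ n.factorization p = 1 := by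
        rw [← pow_mul, ← pow_mul, ← orderOf_dvd_iff_pow_eq_one, ← hn]
        refine ⟨i, ?_⟩
        have e := Nat.ordProj_mul_ordCompl_eq_self n p
        rw [hm]
        calc n / p ^ n.factorization p * (i * p ^ n.factorization p)
            = (p ^ n.factorization p * (n / p ^ n.factorization p)) * i := by ring
          _ = n * i := by rw [e]
      refine hcZ (inf_centralizer_le_pCore PCore.pPrimeCore_quotient_self_eq_bot hcomp.1
        ⟨mem_map_of_mem q hx, ?_⟩)
      rw [← hi, ← map_pow, ← map_pow]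
      exact commutator_eq_bot_iff_le_centralizer.1 he
        (mem_map_of_mem q (mem_pGen (J.pow_mem (J.pow_mem hx m) i) hy))
  · intro M hle hN
    refine (halt M hle hN).imp_right fun he => ?_
    rw [← map_commutator, Subgroup.map_eq_bot_iff, QuotientGroup.ker_mk'] at he
    exact PCore.coprime_card_pPrimeCore.coprime_dvd_left (Subgroup.card_dvd_of_le he)

/-- A p-component is generated by the elements of `p`-power order of the preimage of its image. -/
theorem eq_pGen_of_isPComponent {J : Subgroup X} (hJ : IsPComponent p J) :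
    J = pGen p ((J.map (QuotientGroup.mk' (pPrimeCore p X))).comap (QuotientGroup.mk' (pPrimeCore p X))) := by
  refine le_antisymm ((isPQT_of_isPComponent hJ).gen.trans
    (pGen_le_iff.2 fun y hy ⟨k, hk⟩ => mem_pGen (k := k) (le_comap_map _ _ hy) hk)) ?_
  rw [comap_map_eq, QuotientGroup.ker_mk']
  exact pGen_le_iff.2 fun y hy ⟨k, hk⟩ => mem_of_mem_sup hJ.1 PCore.coprime_card_pPrimeCore hy hk

/-- Over every component of `X / O_{p'}(X)` there is a p-component. -/
theorem exists_isPComponent_of_isComponent {K : Subgroup (X ⧸ pPrimeCore p X)} (hK : IsComponent K) :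
    ∃ J : Subgroup X, IsPComponent p J ∧ J.map (QuotientGroup.mk' (pPrimeCore p X)) = K := by
  set q := QuotientGroup.mk' (pPrimeCore p X) with hq
  have hne : ({J : Subgroup X | J.IsSubnormal ∧ J.map q = K}).Nonempty :=
    ⟨K.comap q, hK.1.comap q, map_comap_eq_self_of_surjective (QuotientGroup.mk'_surjective _) K⟩
  obtain ⟨J, hJ⟩ := (Set.toFinite {J : Subgroup X | J.IsSubnormal ∧ J.map q = K}).exists_minimal hne
  refine ⟨J, ⟨hJ.prop.1, hJ.prop.2.symm ▸ hK, fun H hH hle he => ?_⟩, hJ.prop.2⟩
  exact le_antisymm hle (hJ.le_of_le ⟨hH, he.trans hJ.prop.2⟩ hle)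

/-- The elements of `p`-power order of the preimage of the layer lie in the p-layer. -/
theorem mem_pLayer_of_mk_mem_layer {y : X} {k : ℕ} (hk : y ^ p ^ k = 1)
    (hy : QuotientGroup.mk' (pPrimeCore p X) y ∈ layer (X ⧸ pPrimeCore p X)) : y ∈ pLayer p X := by
  set q := QuotientGroup.mk' (pPrimeCore p X) with hq
  have hconj : (pLayer p X).Normal := by
    refine ⟨fun n hn g => ?_⟩
    have h : pLayer p X ≤ (pLayer p X).comap (MulAut.conj g).toMonoidHom := by
      refine sSup_le fun J hJ => map_le_iff_le_comap.1 (le_sSup ?_)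
      refine ⟨Components.isSubnormal_map_equiv hJ.1 (MulAut.conj g), ?_, fun H hH hle he => ?_⟩
      · have e : (J.map (MulAut.conj g).toMonoidHom).map q
            = (J.map q).map (MulAut.conj (q g)).toMonoidHom := by
          rw [Subgroup.map_map, Subgroup.map_map]; congr 1
        rw [e]
        exact Components.IsComponent.conj hJ.2.1 _
      · have hH' : H.map (MulAut.conj g⁻¹).toMonoidHom = J := by
          refine hJ.2.2 _ (Components.isSubnormal_map_equiv hH (MulAut.conj g⁻¹)) ?_ ?_
          · refine (map_mono hle).trans (le_of_eq ?_)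
            rw [← map_conj_mul, inv_mul_cancel, map_conj_one]
          · calc (H.map (MulAut.conj g⁻¹).toMonoidHom).map q
                = (H.map q).map (MulAut.conj (q g⁻¹)).toMonoidHom := by
                  rw [Subgroup.map_map, Subgroup.map_map]; congr 1
              _ = ((J.map (MulAut.conj g).toMonoidHom).map q).map (MulAut.conj (q g⁻¹)).toMonoidHom := by
                  rw [he]
              _ = J.map q := by
                  rw [Subgroup.map_map, Subgroup.map_map]; congr 1; ext x; simp [hq, mul_assoc]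
        rw [← hH', ← map_conj_mul, mul_inv_cancel, map_conj_one]
    simpa using h hn
  refine mem_of_mem_sup hconj.isSubnormal PCore.coprime_card_pPrimeCore ?_ hk
  rw [← QuotientGroup.ker_mk' (pPrimeCore p X), ← comap_map_eq, mem_comap]
  refine (sSup_le fun K hK => ?_ : layer (X ⧸ pPrimeCore p X) ≤ (pLayer p X).map q) hy
  obtain ⟨J, hJ, rfl⟩ := exists_isPComponent_of_isComponent hK
  exact map_mono (le_sSup hJ)

omit [Fact p.Prime] in
/-- Frattini: the normalizer of a `p`-group maps onto the normalizer of its image modulo a `p'`-group. -/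
theorem exists_mem_normalizer_of_map [Fact p.Prime] (f : X →* X') (hker : (Nat.card ↥f.ker).Coprime p)
    {R : Subgroup X} (hR : IsPGroup p ↥R) {g : X} (hg : f g ∈ normalizer (R.map f : Set X')) :
    ∃ n ∈ normalizer (R : Set X), f n = f g := by
  set S := (R.map f).comap f with hS
  have hRS : R ≤ S := le_comap_map _ _
  have hR'S : R.map (MulAut.conj g).toMonoidHom ≤ S := by
    rintro _ ⟨r, hr, rfl⟩
    rw [mem_comap, MulEquiv.coe_toMonoidHom, MulAut.conj_apply, map_mul, map_mul, map_inv]
    exact (mem_normalizer_iff.1 hg _).1 (mem_map_of_mem f hr)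
  have hcard : ∀ T : Subgroup X, T ≤ S → IsPGroup p ↥T → Nat.card ↥T = Nat.card ↥R →
      ∃ P : Sylow p ↥S, (P : Subgroup ↥S) = T.subgroupOf S := by
    intro T hT hTp hTc
    have hp' : IsPGroup p ↥(T.subgroupOf S) := hTp.of_equiv (subgroupOfEquivOfLe hT).symm
    refine ⟨hp'.toSylow ?_, rfl⟩
    intro hd
    have h1 : T.relIndex S * Nat.card ↥T = Nat.card ↥S := by
      rw [← relIndex_bot_left, ← relIndex_bot_left (H := S), mul_comm, relIndex_mul_relIndex _ _ _ bot_le hT]
    have h2 : Nat.card ↥S ∣ Nat.card ↥f.ker * Nat.card ↥T := by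
      refine (PCore.card_comap_dvd f (R.map f)).trans (Nat.mul_dvd_mul_left _ ?_)
      exact hTc ▸ card_map_dvd _ _
    rw [← h1] at h2
    have h3 : p ∣ Nat.card ↥f.ker := hd.trans (Nat.dvd_of_mul_dvd_mul_right Nat.card_pos h2)
    exact ((Fact.out : p.Prime).coprime_iff_not_dvd.1 hker.symm) h3
  obtain ⟨P, hP⟩ := hcard R hRS hR rfl
  obtain ⟨Q, hQ⟩ := hcard _ hR'S (hR.map _) (card_map_of_injective (MulAut.conj g).injective)
  obtain ⟨s, hs⟩ := MulAction.exists_smul_eq ↥S Q P
  have hsR : (R.map (MulAut.conj g).toMonoidHom).map (MulAut.conj (s : X)).toMonoidHom = R := by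
    have h1 := congrArg (fun P : Sylow p ↥S => (P : Subgroup ↥S).map S.subtype) hs
    simp only [hP, map_subgroupOf_eq_of_le hRS] at h1
    refine Eq.trans ?_ h1
    rw [Sylow.coe_subgroup_smul, hQ]
    ext x
    simp only [Subgroup.mem_map, Subgroup.mem_pointwise_smul_iff_inv_smul_mem, Subgroup.coe_subtype,
      Subgroup.mem_subgroupOf]
    constructor
    · rintro ⟨_, ⟨r, hr, rfl⟩, rfl⟩
      refine ⟨s * ⟨_, hR'S ⟨r, hr, rfl⟩⟩ * s⁻¹, ⟨r, hr, ?_⟩, by simp⟩
      simp [mul_assoc]
    · rintro ⟨z, ⟨r, hr, he⟩, rfl⟩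
      refine ⟨_, ⟨r, hr, rfl⟩, ?_⟩
      rw [he]
      simp [mul_assoc]
  have hn : (s : X) * g ∈ normalizer (R : Set X) := by
    refine mem_normalizer_of_map_conj_eq ?_
    rw [map_conj_mul, hsR]
  obtain ⟨r₀, hr₀, he⟩ : f s ∈ R.map f := s.2
  refine ⟨r₀⁻¹ * ((s : X) * g), (normalizer (R : Set X)).mul_mem
    ((normalizer (R : Set X)).inv_mem (le_normalizer hr₀)) hn, ?_⟩
  rw [map_mul, map_mul, map_inv, he, inv_mul_cancel_left]

omit [Fact p.Prime] in
/-- Frattini: the centralizer of a `p`-group maps onto the centralizer of its image modulo a `p'`-group. -/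
theorem exists_mem_centralizer_of_map [Fact p.Prime] (f : X →* X') (hker : (Nat.card ↥f.ker).Coprime p)
    {R : Subgroup X} (hR : IsPGroup p ↥R) {g : X} (hg : ∀ r ∈ R, Commute (f g) (f r)) :
    ∃ n ∈ centralizer (R : Set X), f n = f g := by
  obtain ⟨n, hn, he⟩ := exists_mem_normalizer_of_map f hker hR (g := g)
    (centralizer_le_normalizer _ (mem_centralizer_iff.2 fun _ ⟨r, hr, hfr⟩ => hfr ▸ (hg r hr).eq.symm))
  refine ⟨n, mem_centralizer_iff.2 fun r hr => ?_, he⟩
  have h1 : n * r * n⁻¹ * r⁻¹ ∈ R := R.mul_mem ((mem_normalizer_iff.1 hn r).1 hr) (R.inv_mem hr)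
  have h2 : n * r * n⁻¹ * r⁻¹ ∈ f.ker := by
    rw [MonoidHom.mem_ker, map_mul, map_mul, map_mul, map_inv, map_inv, he, (hg r hr).eq]
    group
  have h3 := eq_one_of_mem_pGroup_of_coprime hR h1
    (hker.coprime_dvd_left (Subgroup.orderOf_dvd_natCard _ h2))
  exact (mul_inv_eq_iff_eq_mul.1 (mul_inv_eq_one.1 h3)).symm

end Cfsg.Agent.Balance
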