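import Mathlib
import Cfsg.Prelude.Def_Local
import Cfsg.Prelude.Def_KGroupFacts
import Cfsg.Agent.Lib.Balance.PComp

/-!
# L-balance under the Schreier property

* `commute_comp_of_schreier`: a perfect subgroup normalising a component induces inner automorphisms on it, if
  the outer automorphism group of its simple quotient is solvable;
* `IsPQT.le_layer`: for `O_{p'}(X) = 1`, a subnormal `IsPQT` subgroup of `N(R)`, `R` a `p`-group, lies in `E(X)`
  when all components have the Schreier property.
-/

namespace Cfsg.Agent.Balance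

open Subgroup
open scoped commutatorElement

variable {X : Type*} [Group X] {p : ℕ}

/-- Subnormality is transitive, for subgroups of the ambient group. -/
theorem isSubnormal_subgroupOf_trans {A B C : Subgroup X} (hAB : A ≤ B) (hBC : B ≤ C)
    (h1 : (A.subgroupOf B).IsSubnormal) (h2 : (B.subgroupOf C).IsSubnormal) :
    (A.subgroupOf C).IsSubnormal := by
  refine Subgroup.IsSubnormal.trans (K := B.subgroupOf C) (fun x hx => hAB hx) ?_ h2
  exact h1.comap (subgroupOfEquivOfLe hBC).toMonoidHom

/-- The action of `Aut(K)` on `K / Z(K)`. -/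
noncomputable def autModCenter (K : Type*) [Group K] : MulAut K →* MulAut (K ⧸ center K) :=
  MonoidHom.mk'
    (fun e => QuotientGroup.congr (center K) (center K) e (characteristic_iff_map_eq.1 inferInstance e))
    (fun e f => MulEquiv.ext fun x => by
      induction x using QuotientGroup.induction_on with
      | H y => rfl)

theorem autModCenter_mk {K : Type*} [Group K] (e : MulAut K) (x : K) :
    autModCenter K e (QuotientGroup.mk x) = QuotientGroup.mk (e x) := rfl

/-- A perfect subgroup normalising a quasisimple subgroup acts on it by inner automorphisms under the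
Schreier property. -/
theorem exists_commute_of_schreier [Finite X] {J K : Subgroup X} (hJ : ⁅J, J⁆ = J) (hK : ⁅K, K⁆ = K)
    (hJK : J ≤ normalizer (K : Set X)) (hS : Group.IsSolvable (Cfsg.Out (↥K ⧸ center ↥K)))
    {d : X} (hd : d ∈ J) : ∃ k ∈ K, ∀ x ∈ K, Commute (k⁻¹ * d) x := by
  have : Group.IsPerfect ↥J := isPerfect_iff.mpr hJ
  set θ : ↥J →* MulAut (↥K ⧸ center ↥K) :=
    ((autModCenter ↥K).comp (normalizerMonoidHom K)).comp (inclusion hJK) with hθ
  set ψ : ↥J →* Cfsg.Out (↥K ⧸ center ↥K) := (QuotientGroup.mk' (Cfsg.Inn (↥K ⧸ center ↥K))).comp θ with hψ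
  have hinn : θ ⟨d, hd⟩ ∈ Cfsg.Inn (↥K ⧸ center ↥K) := by
    have := Group.IsPerfect.range ψ
    rcases subsingleton_or_nontrivial ↥ψ.range with hs | hn
    · refine (QuotientGroup.eq_one_iff _).1 ?_
      exact congrArg Subtype.val
        (Subsingleton.elim (⟨ψ ⟨d, hd⟩, ⟨_, rfl⟩⟩ : ↥ψ.range) 1)
    · exact absurd (inferInstance : Group.IsSolvable ↥ψ.range) (Group.IsPerfect.not_isSolvable _)
  obtain ⟨q, hq⟩ := hinn
  obtain ⟨k, rfl⟩ := QuotientGroup.mk_surjective q
  refine ⟨k, k.2, commute_of_commutator_central hK (fun x hx y hy => ?_) fun x hx => ?_⟩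
  · have hdx : d * x * d⁻¹ ∈ K := (mem_normalizer_iff.1 (hJK hd) x).1 hx
    have h1 : (QuotientGroup.mk (⟨d * x * d⁻¹, hdx⟩ : ↥K) : ↥K ⧸ center ↥K) =
        QuotientGroup.mk (k * ⟨x, hx⟩ * k⁻¹) :=
      (DFunLike.congr_fun hq ((⟨x, hx⟩ : ↥K) : ↥K ⧸ center ↥K)).symm
    rw [QuotientGroup.eq, mem_center_iff] at h1
    have h2 := congrArg Subtype.val (h1 ⟨(k : X) * y * (k : X)⁻¹, K.mul_mem (K.mul_mem k.2 hy) (K.inv_mem k.2)⟩)
    have h3 : Commute ((k : X) * x * (k : X)⁻¹ * (d * x * d⁻¹)⁻¹) ((k : X) * y * (k : X)⁻¹) := by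
      have hz := h1 ⟨d * x * d⁻¹, hdx⟩
      have hz' := congrArg Subtype.val hz
      simp only [Subgroup.coe_mul, InvMemClass.coe_inv] at hz' h2
      have e : (k : X) * x * (k : X)⁻¹ * (d * x * d⁻¹)⁻¹
          = (d * x * d⁻¹)⁻¹ * ((k : X) * x * (k : X)⁻¹) := by
        refine mul_inv_eq_iff_eq_mul.2 ?_
        calc (k : X) * x * (k : X)⁻¹
            = d * x * d⁻¹ * ((d * x * d⁻¹)⁻¹ * ((k : X) * x * (k : X)⁻¹)) := by group
          _ = _ := hz'
      rw [e]
      exact h2.symm
    have h4 := (h3.inv_left).map (MulAut.conj (k : X)⁻¹).toMonoidHom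
    have e1 : (MulAut.conj (k : X)⁻¹).toMonoidHom ((k : X) * x * (k : X)⁻¹ * (d * x * d⁻¹)⁻¹)⁻¹
        = (k : X)⁻¹ * d * x * ((k : X)⁻¹ * d)⁻¹ * x⁻¹ := by simp; group
    have e2 : (MulAut.conj (k : X)⁻¹).toMonoidHom ((k : X) * y * (k : X)⁻¹) = y := by simp; group
    rwa [e1, e2] at h4
  · exact (mem_normalizer_iff.1
      ((normalizer (K : Set X)).mul_mem ((normalizer (K : Set X)).inv_mem (le_normalizer k.2)) (hJK hd)) x).1 hx

variable [Finite X]

/-- L-balance, in a group with trivial `p'`-core. -/
theorem IsPQT.le_layer [hp : Fact p.Prime] (h : pPrimeCore p X = ⊥)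
    (hS : ∀ K : Subgroup X, IsComponent K → Group.IsSolvable (Cfsg.Out (↥K ⧸ center ↥K)))
    {R : Subgroup X} (hR : IsPGroup p ↥R) {J : Subgroup X} (hJ : IsPQT p J)
    (hJN : J ≤ normalizer (R : Set X)) (hsn : (J.subgroupOf (normalizer (R : Set X))).IsSubnormal) :
    J ≤ layer X := by
  set N := normalizer (R : Set X) with hNdef
  set Z := pCore p X with hZdef
  have hZn : Z.Normal := Components.pCore_normal' p
  -- (a) `J` centralises `R`
  have hJR : J ≤ centralizer (R : Set X) := by
    refine commutator_eq_bot_iff_le_centralizer.1 (le_bot_iff.1 fun x hx => mem_bot.2 ?_)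
    rcases hJ.le_or_commutator_le hJN le_normalizer hsn (le_refl N) with he | he
    · exact absurd he (hJ.not_le_pGroup hR)
    · exact eq_one_of_mem_pGroup_of_coprime hR (le_normalizer_iff_commutator_le_right.1 hJN hx)
        (coprime_orderOf_of_mem_core' (he hx))
  -- (b) `J` centralises `Z`
  have hNN : N ≤ normalizer (centralizer (R : Set X) : Set X) := normalizer_le_normalizer_centralizer _
  have hJM : J ≤ centralizer ((Z ⊓ centralizer (R : Set X) : Subgroup X) : Set X) := by
    have hM : N ≤ normalizer ((Z ⊓ centralizer (R : Set X) : Subgroup X) : Set X) :=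
      (le_inf (le_of_le_of_eq le_top (normalizer_eq_top (H := Z)).symm) hNN).trans
        inf_normalizer_le_normalizer_inf
    have hMp : IsPGroup p ↥(Z ⊓ centralizer (R : Set X)) :=
      (Components.isPGroup_pCore' (G := X) p).to_le inf_le_left
    refine commutator_eq_bot_iff_le_centralizer.1 (le_bot_iff.1 fun x hx => mem_bot.2 ?_)
    rcases hJ.le_or_commutator_le hJN (inf_le_right.trans (centralizer_le_normalizer _)) hsn hM with he | he
    · exact absurd he (hJ.not_le_pGroup hMp)
    · exact eq_one_of_mem_pGroup_of_coprime hMp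
        (le_normalizer_iff_commutator_le_right.1 (hJN.trans hM) hx)
        (coprime_orderOf_of_mem_core' (he hx))
  have hJZ : J ≤ centralizer (Z : Set X) := by
    refine le_of_forall_coprime_mem (p := p) hJ.perfect
      (le_of_le_of_eq le_top (normalizer_eq_top (H := centralizer (Z : Set X))).symm) fun y hy hc => ?_
    refine mem_centralizer_iff.2 fun z hz => ?_
    refine ((commute_of_commute_fixed (Components.isPGroup_pCore' p) hR
      (le_of_le_of_eq le_top (normalizer_eq_top (H := Z)).symm)
      (le_of_le_of_eq le_top (normalizer_eq_top (H := Z)).symm (mem_top y)) hc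
      (fun r hr => (mem_centralizer_iff.1 (hJR hy) r hr).symm) fun c hcZ hcR => ?_) z hz).eq.symm
    exact (mem_centralizer_iff.1 (hJM hy) c ⟨hcZ, mem_centralizer_iff.2 fun r hr => (hcR r hr).eq⟩).symm
  have hJc : J ≤ centR p R := le_inf hJR hJZ
  -- (c) `J` normalises every component
  set H := normalizer (centR p R : Set X) with hHdef
  have hcN : centR p R ≤ N := inf_le_left.trans (centralizer_le_normalizer _)
  have hsnH : (J.subgroupOf H).IsSubnormal := by
    refine isSubnormal_subgroupOf_trans hJc le_normalizer ?_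
      (normal_subgroupOf_of_le_normalizer le_rfl).isSubnormal
    exact hsn.comap (inclusion hcN)
  have hJH : J ≤ H := hJc.trans le_normalizer
  have hlayN : H ≤ normalizer ((layer X ⊓ H : Subgroup X) : Set X) :=
    (le_inf (le_of_le_of_eq le_top (normalizer_eq_top (H := layer X)).symm) le_normalizer).trans
      inf_normalizer_le_normalizer_inf
  rcases hJ.le_or_commutator_le hJH inf_le_right hsnH hlayN with he | hcom
  · exact he.trans inf_le_left
  have hnorm : ∀ K : Subgroup X, IsComponent K → J ≤ normalizer (K : Set X) := by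
    have hU : ∀ g : X, ∀ u ∈ (⨅ K : {K : Subgroup X // IsComponent K}, normalizer ((K : Subgroup X) : Set X)),
        g * u * g⁻¹ ∈ (⨅ K : {K : Subgroup X // IsComponent K}, normalizer ((K : Subgroup X) : Set X)) := by
      intro g u hu
      refine mem_iInf.2 fun K => mem_normalizer_of_map_conj_eq ?_
      have h1 : u ∈ normalizer (((K : Subgroup X).map (MulAut.conj g⁻¹).toMonoidHom : Subgroup X) : Set X) :=
        mem_iInf.1 hu ⟨_, Components.IsComponent.conj K.2 g⁻¹⟩
      rw [map_conj_mul, map_conj_mul, map_conj_eq_of_mem_normalizer h1, ← map_conj_mul, mul_inv_cancel,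
        map_conj_one]
    have hle : J ≤ ⨅ K : {K : Subgroup X // IsComponent K}, normalizer ((K : Subgroup X) : Set X) := by
      refine le_of_forall_coprime_mem (p := p) hJ.perfect (le_normalizer_iff.2 fun g _ u hu => hU g u hu)
        fun d hd hc => ?_
      refine mem_iInf.2 fun K => ?_
      have hdR : ∀ r ∈ R, Commute d r := fun r hr => (mem_centralizer_iff.1 (hJR hd) r hr).symm
      refine mem_normalizer_of_conj_eq hR hdR hc (exists_conj_eq h hR hdR (fun c hcl hcf => ?_) K.2)
      have hcM : c ∈ layer X ⊓ H := ⟨hcl, fixedMod_le_normalizer R hcf⟩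
      have h1 : ⁅c⁻¹, d⁆ ∈ ⁅J, layer X ⊓ H⁆ := by
        rw [commutator_comm]
        exact commutator_mem_commutator (inv_mem hcM) hd
      have h2 := coprime_orderOf_of_mem_core' (hcom h1)
      simpa [commutatorElement_def, mul_assoc] using h2
    exact fun K hK => hle.trans (iInf_le (fun K : {K : Subgroup X // IsComponent K} =>
      normalizer ((K : Subgroup X) : Set X)) ⟨K, hK⟩)
  -- (d) `J ≤ E(X) Z`
  have hinner : ∀ d ∈ J, ∃ e ∈ layer X, ∀ K : Subgroup X, IsComponent K → ∀ x ∈ K, Commute (e⁻¹ * d) x := by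
    intro d hd
    classical
    have hfin : {K : Subgroup X | IsComponent K}.Finite := Set.toFinite _
    have key : ∀ s : Finset (Subgroup X), (∀ K ∈ s, IsComponent K) →
        ∃ e ∈ (⨆ K ∈ s, K : Subgroup X), ∀ K ∈ s, ∀ x ∈ K, Commute (e⁻¹ * d) x := by
      intro s
      induction s using Finset.induction_on with
      | empty => exact fun _ => ⟨1, one_mem _, fun K hK => absurd hK (Finset.notMem_empty K)⟩
      | insert K₀ s hK₀ ih =>
        intro hs
        have hs' : ∀ K ∈ s, IsComponent K := fun K hK => hs K (Finset.mem_insert_of_mem hK)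
        obtain ⟨e, he, hes⟩ := ih hs'
        have hc0 : IsComponent K₀ := hs K₀ (Finset.mem_insert_self _ _)
        obtain ⟨k, hk, hk0⟩ := exists_commute_of_schreier hJ.perfect
          (Components.IsComponent.commutator_self hc0) (hnorm K₀ hc0) (hS K₀ hc0) hd
        have hcomm : ∀ K ∈ s, ∀ x ∈ K, Commute k x := by
          intro K hK x hx
          have hne : K₀ ≠ K := fun hh => hK₀ (hh ▸ hK)
          exact (mem_centralizer_iff.1 (Components.le_centralizer_of_commutator_eq_bot
            (Components.IsComponent.commutator_eq_bot hc0 (hs' K hK) hne) hk) x hx).symm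
        have hek : ∀ x ∈ K₀, Commute e x := by
          intro x hx
          have hle : (⨆ K ∈ s, K : Subgroup X) ≤ centralizer ({x} : Set X) := by
            refine iSup₂_le fun K hK y hy => mem_centralizer_singleton_iff.2 ?_
            have hne : K₀ ≠ K := fun hh => hK₀ (hh ▸ hK)
            exact (mem_centralizer_iff.1 (Components.le_centralizer_of_commutator_eq_bot
              (Components.IsComponent.commutator_eq_bot hc0 (hs' K hK) hne) hx) y hy)
          exact mem_centralizer_singleton_iff.1 (hle he)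
        refine ⟨e * k, mul_mem ?_ (mem_iSup_of_mem K₀ (mem_iSup_of_mem (Finset.mem_insert_self _ _) hk)), ?_⟩
        · exact (biSup_mono fun K hK => Finset.mem_insert_of_mem hK : (⨆ K ∈ s, K : Subgroup X) ≤ _) he
        intro K hK x hx
        rw [mul_inv_rev, mul_assoc]
        rcases Finset.mem_insert.1 hK with rfl | hK
        · have hy : k⁻¹ * d * x * (k⁻¹ * d)⁻¹ = x := by rw [(hk0 x hx).eq]; group
          have hdx : d * x * d⁻¹ ∈ K := (mem_normalizer_iff.1 (hnorm K hc0 hd) x).1 hx
          refine mul_inv_eq_iff_eq_mul.1 ?_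
          calc k⁻¹ * (e⁻¹ * d) * x * (k⁻¹ * (e⁻¹ * d))⁻¹
              = k⁻¹ * (e⁻¹ * (d * x * d⁻¹) * e) * k := by group
            _ = k⁻¹ * (d * x * d⁻¹) * k := by
              rw [(hek _ hdx).inv_left.eq]; group
            _ = k⁻¹ * d * x * (k⁻¹ * d)⁻¹ := by group
            _ = x := hy
        · exact (hcomm K hK x hx).inv_left.mul_left (hes K hK x hx)
    obtain ⟨e, he, hes⟩ := key hfin.toFinset fun K hK => hfin.mem_toFinset.1 hK
    refine ⟨e, (iSup₂_le fun K hK => Components.IsComponent.le_layer (hfin.mem_toFinset.1 hK) :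
      (⨆ K ∈ hfin.toFinset, K : Subgroup X) ≤ layer X) he, fun K hK => hes K (hfin.mem_toFinset.2 hK)⟩
  refine le_of_forall_coprime_mem (p := p) hJ.perfect
    (le_of_le_of_eq le_top (normalizer_eq_top (H := layer X)).symm) fun d hd hc => ?_
  obtain ⟨e, he, hes⟩ := hinner d hd
  have heZ : ∀ z ∈ Z, Commute (e⁻¹ * d) z := fun z hz =>
    (commute_layer_pCore (inv_mem he) hz).mul_left (mem_centralizer_iff.1 (hJZ hd) z hz).symm
  have hF : e⁻¹ * d ∈ generalizedFittingSubgroup X := by
    refine Components.centralizer_generalizedFittingSubgroup_le (mem_centralizer_iff.2 fun y hy => ?_)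
    have hle : generalizedFittingSubgroup X ≤ centralizer ({e⁻¹ * d} : Set X) := sup_le
      (sSup_le fun K hK x hx => mem_centralizer_singleton_iff.2 (hes K hK x hx).eq.symm)
      (fun z hz => mem_centralizer_singleton_iff.2 (heZ z (by rw [hZdef, ← fitting_eq_pCore h]; exact hz)).eq.symm)
    exact mem_centralizer_singleton_iff.1 (hle hy)
  have hdEZ : d ∈ layer X ⊔ Z := by
    have h1 : e * (e⁻¹ * d) ∈ layer X ⊔ Z :=
      mul_mem (mem_sup_left he) (by rw [hZdef, ← fitting_eq_pCore h]; exact hF)
    simpa using h1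
  set f := QuotientGroup.mk' (layer X) with hf
  have h2 : f d ∈ Z.map f := by
    have := mem_map_of_mem f hdEZ
    rwa [Subgroup.map_sup, hf, QuotientGroup.map_mk'_self, bot_sup_eq] at this
  have h3 := eq_one_of_mem_pGroup_of_coprime ((Components.isPGroup_pCore' p).map f) h2
    (hc.coprime_dvd_left (orderOf_map_dvd f d))
  exact (QuotientGroup.eq_one_iff d).1 h3

end Cfsg.Agent.Balance
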