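import Mathlib
import Cfsg.Prelude.Def_Quasithin
import Cfsg.Agent.Lib.Balance.CharP

/-!
# Consequences of even characteristic
-/

namespace Cfsg.Agent.Balance

open Subgroup

variable {G : Type*} [Group G] [Finite G]

/-- A normal 2-subgroup of `M` lies in every Sylow 2-subgroup of `G` contained in `M`. -/
theorem core_le_sylow {p : ℕ} [Fact p.Prime] (T : Sylow p G) {M : Subgroup G} (hT : (T : Subgroup G) ≤ M) :
    core p M ≤ T := by
  have h := hT.trans (le_normalizer_core (p := p) M)
  exact le_sup_left.trans_eq (T.3 (IsPGroup.to_sup_of_normal_left' (isPGroup_core M) T.2 h) le_sup_right)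

/-- In a group of even characteristic every subgroup containing a Sylow 2-subgroup with nontrivial 2-core has
characteristic 2. -/
theorem charP'_of_even_char (hE : IsOfEvenCharacteristic G) (T : Sylow 2 G) {H : Subgroup G}
    (hT : (T : Subgroup G) ≤ H) (hH : pCore 2 ↥H ≠ ⊥) : CharP' 2 H := by
  have := Fact.mk Nat.prime_two
  set R := core 2 H with hR
  have hne : R ≠ ⊥ := fun h => hH ((map_eq_bot_iff_of_injective _ H.subtype_injective).1 h)
  set M := normalizer (R : Set G) with hM
  have hHM : H ≤ M := le_normalizer_core H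
  have h := hE M ⟨R, isPGroup_core H, hne, rfl⟩ ⟨T, hT.trans hHM⟩
  exact ((charP'_two_iff M).2 h).of_le hHM ((core_le_sylow T (hT.trans hHM)).trans hT)

end Cfsg.Agent.Balance
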