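import Mathlib
import Cfsg.Agent.Lib.Balance.PComp
import Cfsg.Agent.Lib.Transfer.Alperin
import Cfsg.Agent.Lib.ZStar.Main
import Cfsg.Agent.Lib.ConjFun.Basic

/-!
# Glauberman's theorem on automorphisms centralizing a Sylow 2-subgroup

If a perfect group `J`, generated by its elements of 2-power order, normalises `G` and centralises a
Sylow 2-subgroup of `G`, then `[J, G] ≤ O(G)` (`commutator_le_core'_of_centralizes_sylow`).
-/

namespace Cfsg.Agent.Balance

open Subgroup
open scoped commutatorElement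

universe u

variable {A : Type u} [Group A] [Finite A]

/-- `J` is perfect, generated by 2-elements, normalises `G` and centralises the Sylow 2-subgroup `P` of `G`. -/
structure CentSylow (G J P : Subgroup A) : Prop where
  perfect : ⁅J, J⁆ = J
  gen : J ≤ pGen 2 J
  norm : J ≤ normalizer (G : Set A)
  le : P ≤ G
  isP : IsPGroup 2 ↥P
  index : ¬ 2 ∣ P.relIndex G
  cent : J ≤ centralizer (P : Set A)

/-- The induction hypothesis. -/
def GlIH (n : ℕ) : Prop :=
  ∀ (A : Type u) [Group A] [Finite A] (G J P : Subgroup A), Nat.card G < n → CentSylow G J P →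
    ⁅J, G⁆ ≤ core' 2 G

theorem eq_of_le_of_isPGroup {p : ℕ} [Fact p.Prime] {G P T : Subgroup A} (hPT : P ≤ T) (hTG : T ≤ G)
    (hT : IsPGroup p ↥T) (hidx : ¬ p ∣ P.relIndex G) : T = P := by
  refine le_antisymm (relIndex_eq_one.1 ?_) hPT
  obtain ⟨n, hn⟩ := hT.index (P.subgroupOf T)
  rcases n.eq_zero_or_pos with rfl | hn0
  · simpa [relIndex] using hn
  · refine absurd ((show p ∣ P.relIndex T by rw [relIndex, hn]; exact dvd_pow_self p hn0.ne').trans
      (Dvd.intro _ (relIndex_mul_relIndex P T G hPT hTG))) hidx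

theorem CentSylow.map {G J P : Subgroup A} (h : CentSylow G J P) {A' : Type*} [Group A'] [Finite A']
    (f : A →* A') : CentSylow (G.map f) (J.map f) (P.map f) where
  perfect := by rw [← map_commutator, h.perfect]
  gen := (map_mono h.gen).trans (map_pGen_le f J)
  norm := (map_mono h.norm).trans (le_normalizer_map f)
  le := map_mono h.le
  isP := h.isP.map f
  index hd := h.index (hd.trans (by
    have e : (P.map f).subgroupOf (G.map f) = (P.subgroupOf G).map (f.subgroupMap G) := by
      ext ⟨y, hy⟩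
      constructor
      · rintro ⟨x, hx, rfl⟩
        exact ⟨⟨x, h.le hx⟩, hx, rfl⟩
      · rintro ⟨x, hx, he⟩
        exact ⟨x, hx, congrArg Subtype.val he⟩
    rw [relIndex, relIndex, e]
    exact index_map_dvd _ (MonoidHom.subgroupMap_surjective f G)))
  cent := by
    rintro _ ⟨j, hj, rfl⟩
    refine mem_centralizer_iff.2 ?_
    rintro _ ⟨x, hx, rfl⟩
    rw [← map_mul, ← map_mul, mem_centralizer_iff.1 (h.cent hj) x hx]

theorem CentSylow.subgroupOf {G J P : Subgroup A} (h : CentSylow G J P) {N : Subgroup A}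
    (hG : G ≤ N) (hJ : J ≤ N) : CentSylow (G.subgroupOf N) (J.subgroupOf N) (P.subgroupOf N) where
  perfect := by
    apply Subgroup.map_injective N.subtype_injective
    rw [map_commutator, map_subgroupOf_eq_of_le hJ, h.perfect]
  gen := by
    have : J ≤ (pGen 2 (J.subgroupOf N)).map N.subtype :=
      h.gen.trans (pGen_le_iff.2 fun y hy ⟨k, hk⟩ =>
        ⟨⟨y, hJ hy⟩, mem_pGen (k := k) hy (Subtype.ext hk), rfl⟩)
    intro x hx
    obtain ⟨y, hy, he⟩ := this hx
    exact Subtype.ext he ▸ hy
  norm := fun j hj => mem_normalizer_iff.2 fun x => mem_normalizer_iff.1 (h.norm hj) (x : A)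
  le := comap_mono h.le
  isP := h.isP.of_equiv (subgroupOfEquivOfLe (h.le.trans hG)).symm
  index := by
    rw [← relIndex_map_map_of_injective _ _ N.subtype_injective, map_subgroupOf_eq_of_le hG,
      map_subgroupOf_eq_of_le (h.le.trans hG)]
    exact h.index
  cent := fun j hj => mem_centralizer_iff.2 fun x hx => Subtype.ext (mem_centralizer_iff.1 (h.cent hj) _ hx)

theorem CentSylow.restrict {G J P : Subgroup A} (h : CentSylow G J P) {M : Subgroup A} (hMG : M ≤ G)
    (hM : J ≤ normalizer (M : Set A)) (hidx : ¬ 2 ∣ (P ⊓ M).relIndex M) : CentSylow M J (P ⊓ M) :=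
  ⟨h.perfect, h.gen, hM, inf_le_right, h.isP.to_le inf_le_left, hidx,
    h.cent.trans (centralizer_le (SetLike.coe_subset_coe.2 inf_le_left))⟩

/-- An element of odd order inverted by an involution is twisted away. -/
theorem exists_commute_of_inverted {u n c : A} (hu : u * u = 1) (hc : c = n⁻¹ * u * n * u)
    (hodd : Nat.Coprime (orderOf c) 2) : ∃ k : ℕ, Commute u (n * c ^ k) := by
  obtain ⟨k, hk⟩ : ∃ k : ℕ, (c ^ 2) ^ k = c := exists_pow_eq_self_of_coprime hodd.symm
  refine ⟨k, ?_⟩
  have hui : u⁻¹ = u := inv_eq_of_mul_eq_one_right hu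
  have h1 : u * c * u⁻¹ = c⁻¹ := by
    rw [hc, mul_inv_rev, mul_inv_rev, mul_inv_rev, inv_inv, hui]
    calc u * (n⁻¹ * u * n * u) * u = u * n⁻¹ * u * n * (u * u) := by group
      _ = u * n⁻¹ * u * n := by rw [hu, mul_one]
      _ = _ := by group
  have h2 : u * c ^ k * u⁻¹ = (c ^ k)⁻¹ := by rw [← conj_pow, h1, inv_pow]
  have h3 : c * (c ^ k)⁻¹ = c ^ k := by
    rw [mul_inv_eq_iff_eq_mul, ← pow_add, ← two_mul, pow_mul, hk]
  show u * (n * c ^ k) = n * c ^ k * u
  calc u * (n * c ^ k) = u * n * (u * u) * c ^ k * u⁻¹ * u := by rw [hu]; group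
    _ = n * (n⁻¹ * u * n * u) * (u * c ^ k * u⁻¹) * u := by group
    _ = n * (c * (c ^ k)⁻¹) * u := by rw [← hc, h2]; group
    _ = n * c ^ k * u := by rw [h3]

/-- An element of a `p`-group lying in a group of order prime to `p` is trivial. -/
theorem eq_one_of_mem_pGroup_of_mem {p : ℕ} [Fact p.Prime] {D O : Subgroup A} (hD : IsPGroup p ↥D)
    (hO : (Nat.card O).Coprime p) {x : A} (hxD : x ∈ D) (hxO : x ∈ O) : x = 1 :=
  eq_one_of_mem_pGroup_of_coprime hD hxD
    (hO.coprime_dvd_left (Subgroup.orderOf_dvd_natCard _ hxO))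

section Involution

variable {G J P : Subgroup A}

/-- Locally, `J` acts trivially modulo odd cores. -/
theorem CentSylow.commutator_local (h : CentSylow G J P) (IH : GlIH.{u} (Nat.card G))
    (hR : core 2 G = ⊥) {E : Subgroup A} (hEP : E ≤ P) (hE : E ≠ ⊥)
    (hidx : ¬ 2 ∣ (P ⊓ normalizer (E : Set A)).relIndex (G ⊓ normalizer (E : Set A))) :
    ⁅J, G ⊓ normalizer (E : Set A)⁆ ≤ core' 2 (G ⊓ normalizer (E : Set A)) := by
  set M := G ⊓ normalizer (E : Set A) with hM
  have hMG : M ≤ G := inf_le_left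
  have hlt : Nat.card M < Nat.card G := by
    refine lt_of_le_of_ne (Nat.le_of_dvd Nat.card_pos (Subgroup.card_dvd_of_le hMG)) fun he => hE ?_
    have hMe := Subgroup.eq_of_le_of_card_ge hMG he.ge
    exact le_bot_iff.1 (hR ▸ le_core (hEP.trans h.le) (hMe.ge.trans inf_le_right) (h.isP.to_le hEP))
  have hJM : J ≤ normalizer (M : Set A) := (le_inf h.norm ((h.cent.trans
    (centralizer_le (SetLike.coe_subset_coe.2 hEP))).trans (centralizer_le_normalizer _) |>.trans
      le_normalizer)).trans inf_normalizer_le_normalizer_inf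
  refine IH A M J (P ⊓ M) hlt (h.restrict hMG hJM ?_)
  rwa [hM, ← inf_assoc, inf_eq_left.2 h.le]

theorem CentSylow.fusion (h : CentSylow G J P) (IH : GlIH.{u} (Nat.card G)) (hR : core 2 G = ⊥)
    {u : A} (huJ : u ∈ J) (hu : u * u = 1) {D : Subgroup A} (hD : D ≤ P) {g : A} (hg : g ∈ G)
    (hDg : ∀ d ∈ D, g⁻¹ * d * g ∈ P) :
    ∃ y ∈ G, Commute u y ∧ ∀ d ∈ D, y⁻¹ * d * y = g⁻¹ * d * g := by
  haveI : Fact (Nat.Prime 2) := ⟨Nat.prime_two⟩
  let P' : Sylow 2 ↥G := (h.isP.of_equiv (subgroupOfEquivOfLe h.le).symm).toSylow h.index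
  refine (fun key => ?_ : (∀ E : Subgroup ↥G, Transfer.IsTame P' E → ∀ x ∈ normalizer (E : Set ↥G),
      ∃ y ∈ (centralizer ({u} : Set A)).subgroupOf G, ∀ d ∈ E, y⁻¹ * d * y = x⁻¹ * d * x) → _)
    (fun E hE x hx => ?_)
  · obtain ⟨y, hy, hy'⟩ := Transfer.exists_conj_eq_of_tame P' ((centralizer ({u} : Set A)).subgroupOf G)
      key ((fun a : ↥G => (a : A)) ⁻¹' (D : Set A)) ⟨g, hg⟩ (fun a ha => hD ha) (fun a ha => hDg _ ha)
    exact ⟨y, y.2, (mem_centralizer_singleton_iff.1 hy).symm, fun d hd =>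
      congrArg Subtype.val (hy' ⟨d, h.le (hD hd)⟩ hd)⟩
  by_cases hbot : E = ⊥
  · exact ⟨1, one_mem _, fun d hd => by rw [hbot, mem_bot] at hd; simp [hd]⟩
  obtain ⟨Q, hEQ, hidx, -⟩ := hE
  set E' := E.map G.subtype with hE'
  have hEP : E' ≤ P := by
    rintro _ ⟨e, he, rfl⟩
    rw [hEQ] at he
    exact he.1
  have hN : normalizer (E : Set ↥G) = (normalizer (E' : Set A)).subgroupOf G := by
    ext z
    simp only [mem_subgroupOf, mem_normalizer_iff]
    refine ⟨fun hz b => ?_, fun hz b => ?_⟩
    · constructor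
      · rintro ⟨e, he, rfl⟩
        exact ⟨z * e * z⁻¹, (hz e).1 he, rfl⟩
      · rintro ⟨e, he, heq⟩
        refine ⟨z⁻¹ * e * z, (hz _).2 (by simpa [mul_assoc] using he), ?_⟩
        have : (e : A) = (z : A) * b * (z : A)⁻¹ := heq
        simp [this, mul_assoc]
    · have h1 := hz (b : A)
      constructor
      · intro hb
        obtain ⟨e, he, heq⟩ := h1.1 ⟨b, hb, rfl⟩
        exact (Subtype.ext heq : e = z * b * z⁻¹) ▸ he
      · intro hb
        obtain ⟨e, he, heq⟩ := h1.2 ⟨_, hb, rfl⟩
        exact (Subtype.ext heq : e = b) ▸ he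
  have hloc := h.commutator_local IH hR hEP (fun he => hbot ((map_eq_bot_iff_of_injective _ G.subtype_injective).1 he))
    (E := E') (by
      intro hd
      apply hidx
      rwa [hN, ← relIndex_map_map_of_injective _ _ G.subtype_injective,
        Subgroup.map_inf _ _ _ G.subtype_injective, subgroupOf_map_subtype,
        show (P' : Subgroup ↥G).map G.subtype = P from map_subgroupOf_eq_of_le h.le,
        inf_comm (normalizer (E' : Set A)) G, ← inf_assoc, inf_eq_left.2 h.le])
  set M := G ⊓ normalizer (E' : Set A) with hM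
  have hxM : (x : A) ∈ M := ⟨x.2, by rw [hN] at hx; exact hx⟩
  set c := (x : A)⁻¹ * u * x * u with hc
  have hcO : c ∈ core' 2 M := by
    have h1 := hloc (commutator_mem_commutator huJ (M.inv_mem hxM))
    have h2 := inv_mem h1
    rw [commutatorElement_inv, commutatorElement_def, inv_inv, inv_eq_of_mul_eq_one_right hu] at h2
    exact h2
  obtain ⟨k, hk⟩ := exists_commute_of_inverted hu hc (coprime_orderOf_of_mem_core' hcO)
  have hO : c ^ k ∈ core' 2 M := pow_mem hcO k
  refine ⟨x * ⟨c ^ k, ((core'_le M) hO).1⟩, mem_centralizer_singleton_iff.2 hk.eq.symm, fun d hd => ?_⟩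
  -- the odd core centralises `E`
  have hdE : (d : A) ∈ E' := mem_map_of_mem _ hd
  have he2 : (x : A)⁻¹ * d * x ∈ E' := by
    have := (mem_normalizer_iff.1 (inv_mem hxM.2) (d : A)).1 hdE
    rwa [inv_inv] at this
  have hEM : E' ≤ M := le_inf (map_subtype_le _) le_normalizer
  have hcomm : Commute (c ^ k) ((x : A)⁻¹ * d * x) := by
    refine commutatorElement_eq_one_iff_commute.1 (eq_one_of_mem_pGroup_of_mem (h.isP.to_le hEP)
      (card_core'_coprime (p := 2) M) ?_ ?_)
    · rw [commutatorElement_def]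
      exact E'.mul_mem ((mem_normalizer_iff.1 ((core'_le M) hO).2 _).1 he2) (E'.inv_mem he2)
    · rw [commutatorElement_def, mul_assoc, mul_assoc]
      exact mul_mem hO (by
        rw [← mul_assoc]
        exact (mem_normalizer_iff.1 (le_normalizer_core' M (hEM he2)) _).1 (inv_mem hO))
  refine Subtype.ext ?_
  show ((x : A) * c ^ k)⁻¹ * d * ((x : A) * c ^ k) = (x : A)⁻¹ * d * x
  calc ((x : A) * c ^ k)⁻¹ * d * ((x : A) * c ^ k) = (c ^ k)⁻¹ * ((x : A)⁻¹ * d * x * c ^ k) := by group
    _ = _ := by rw [← hcomm.eq, inv_mul_cancel_left]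

/-- A step of fusion near the involution fixes it. -/
theorem CentSylow.step (h : CentSylow G J P) (IH : GlIH.{u} (Nat.card G)) (hR : core 2 G = ⊥)
    {u : A} (huJ : u ∈ J) (hu : u * u = 1) {D : Subgroup A} (huD : u ∈ D) (hDP : D ⊓ G ≤ P)
    {n : A} (hn : n ∈ G) (hnD : n ∈ normalizer (D : Set A)) : Commute u n := by
  haveI : Fact (Nat.Prime 2) := ⟨Nat.prime_two⟩
  set D0 := D ⊓ G
  set w := u * n * u⁻¹ * n⁻¹ with hw
  have hwD : w ∈ D0 := ⟨by
    rw [hw, show u * n * u⁻¹ * n⁻¹ = u * (n * u⁻¹ * n⁻¹) by group]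
    exact D.mul_mem huD ((mem_normalizer_iff.1 hnD _).1 (D.inv_mem huD)),
    G.mul_mem ((mem_normalizer_iff.1 (h.norm huJ) n).1 hn) (G.inv_mem hn)⟩
  suffices hw1 : w = 1 by
    exact commutatorElement_eq_one_iff_commute.1 (by rw [commutatorElement_def]; exact hw1)
  by_cases hbot : D0 = ⊥
  · rw [hbot, mem_bot] at hwD; exact hwD
  have hnD0 : n ∈ normalizer (D0 : Set A) :=
    inf_normalizer_le_normalizer_inf ⟨hnD, le_normalizer hn⟩
  set M := G ⊓ normalizer (D0 : Set A) with hM
  have hD0M : D0 ≤ M := le_inf inf_le_right le_normalizer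
  obtain ⟨W, hW⟩ := ((h.isP.to_le hDP).of_equiv (subgroupOfEquivOfLe hD0M).symm).exists_le_sylow
  set W' := (W : Subgroup ↥M).map M.subtype with hW'
  have hW'M : W' ≤ M := map_subtype_le _
  obtain ⟨g, hg, hgW⟩ : ∃ g ∈ G, ∀ w' ∈ W', g * w' * g⁻¹ ∈ P := by
    obtain ⟨S, hS⟩ := ((W.isPGroup'.map M.subtype).of_equiv
      (subgroupOfEquivOfLe (hW'M.trans inf_le_left)).symm).exists_le_sylow (G := ↥G)
    obtain ⟨c, hc⟩ := MulAction.exists_smul_eq ↥G S ((h.isP.of_equiv (subgroupOfEquivOfLe h.le).symm).toSylow h.index)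
    exact ⟨c, c.2, fun w' hw' => Transfer.conj_mem_of_smul_eq hc
      (t := ⟨w', (hW'M.trans inf_le_left) hw'⟩) (hS hw')⟩
  have hD0W : D0 ≤ W' := by
    rw [← map_subgroupOf_eq_of_le hD0M]
    exact map_mono hW
  obtain ⟨y, hyG, hyu, hy⟩ := h.fusion IH hR huJ hu hDP (G.inv_mem hg)
    (fun d hd => by rw [inv_inv]; exact hgW d (hD0W hd))
  -- transport to `D1`
  set D1 := D0.map (MulAut.conj g).toMonoidHom with hD1
  have hD1P : D1 ≤ P := by
    rintro _ ⟨d, hd, rfl⟩
    exact hgW d (hD0W hd)
  have hy1 : ∀ d ∈ D0, y⁻¹ * d * y = g * d * g⁻¹ := fun d hd => by rw [hy d hd, inv_inv]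
  have hGmap : G.map (MulAut.conj g).toMonoidHom = G :=
    map_conj_eq_of_mem_normalizer (le_normalizer hg)
  have hMmap : M.map (MulAut.conj g).toMonoidHom = G ⊓ normalizer (D1 : Set A) := by
    rw [hM, Subgroup.map_inf _ _ _ (MulAut.conj g).injective, hGmap, hD1]
    congr 1
    exact map_equiv_normalizer_eq D0 (MulAut.conj g)
  have hloc := h.commutator_local IH hR hD1P (fun he => hbot ((map_eq_bot_iff_of_injective _ (MulAut.conj g).injective).1 he))
    (E := D1) (fun hd => W.not_dvd_index (hd.trans ?_))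
  · have hn1 : y⁻¹ * n * y ∈ G ⊓ normalizer (D1 : Set A) := by
      refine ⟨G.mul_mem (G.mul_mem (G.inv_mem hyG) hn) hyG, ?_⟩
      have hDeq : D1 = D0.map (MulAut.conj y⁻¹).toMonoidHom := by
        ext a
        constructor <;> rintro ⟨d, hd, rfl⟩ <;> refine ⟨d, hd, ?_⟩
        · simpa using hy1 d hd
        · simpa using (hy1 d hd).symm
      have := le_normalizer_map (MulAut.conj y⁻¹).toMonoidHom (mem_map_of_mem _ hnD0)
      rw [← hDeq] at this
      simpa using this
    have h1 := hloc (commutator_mem_commutator huJ hn1)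
    have h2 : ⁅u, y⁻¹ * n * y⁆ = y⁻¹ * w * y := by
      have e1 := hyu.eq
      have e2 := hyu.inv_right.eq
      rw [commutatorElement_def, hw]
      calc u * (y⁻¹ * n * y) * u⁻¹ * (y⁻¹ * n * y)⁻¹
          = (u * y⁻¹) * n * (y * u⁻¹) * y⁻¹ * n⁻¹ * y := by group
        _ = (y⁻¹ * u) * n * (u⁻¹ * y) * y⁻¹ * n⁻¹ * y := by rw [e2, hyu.inv_left.eq.symm]
        _ = y⁻¹ * (u * n * u⁻¹ * n⁻¹) * y := by group
    rw [h2] at h1
    have h3 : y⁻¹ * w * y = 1 := eq_one_of_mem_pGroup_of_mem (h.isP.to_le hD1P) (card_core'_coprime _)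
      ⟨w, hwD, by simpa using (hy1 w hwD).symm⟩ h1
    simpa [mul_assoc, inv_mul_eq_one] using congrArg (fun t => y * t * y⁻¹) h3
  · -- the Sylow subgroup of `N(D1)` in `P`
    have hle : W'.map (MulAut.conj g).toMonoidHom ≤ P ⊓ normalizer (D1 : Set A) := by
      refine le_inf ?_ ((map_mono hW'M).trans (hMmap.le.trans inf_le_right))
      rintro _ ⟨w', hw', rfl⟩
      exact hgW w' hw'
    refine (relIndex_dvd_of_le_left _ hle).trans (dvd_of_eq ?_)
    rw [← hMmap, relIndex_map_map_of_injective _ _ (MulAut.conj g).injective, hW', relIndex, Subgroup.subgroupOf,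
      comap_map_eq_self_of_injective M.subtype_injective]

theorem CentSylow.commute_involution (h : CentSylow G J P) (IH : GlIH.{u} (Nat.card G))
    (hO : core' 2 G = ⊥) (hR : core 2 G = ⊥) {u : A} (huJ : u ∈ J) (hu : orderOf u = 2) :
    ∀ g ∈ G, Commute u g := by
  haveI : Fact (Nat.Prime 2) := ⟨Nat.prime_two⟩
  have hu2 : u * u = 1 := by rw [← pow_two, ← hu]; exact pow_orderOf_eq_one u
  set H := G ⊔ zpowers u with hH
  have hGH : G ≤ H := le_sup_left
  have huH : u ∈ H := mem_sup_right (mem_zpowers u)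
  have memH : ∀ x ∈ H, ∃ g ∈ G, x = g ∨ x = g * u := by
    intro x hx
    rw [← SetLike.mem_coe, coe_mul_of_right_le_normalizer_left G (zpowers u) (zpowers_le.2 (h.norm huJ)),
      Set.mem_mul] at hx
    obtain ⟨g, hg, z, hz, rfl⟩ := hx
    obtain ⟨i, rfl⟩ := mem_zpowers_iff.1 hz
    rcases Int.even_or_odd i with ⟨j, rfl⟩ | ⟨j, rfl⟩
    · exact ⟨g, hg, Or.inl (by rw [← two_mul, zpow_mul, zpow_ofNat, pow_two, hu2, one_zpow, mul_one])⟩
    · exact ⟨g, hg, Or.inr (by rw [zpow_add_one, zpow_mul, zpow_ofNat, pow_two, hu2, one_zpow, one_mul])⟩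
  set Q := P ⊔ zpowers u with hQ
  have hQH : Q ≤ H := sup_le_sup h.le le_rfl
  have huP : ∀ x ∈ P, Commute u x := fun x hx => (mem_centralizer_iff.1 (h.cent huJ) x hx).symm
  have hQp : IsPGroup 2 ↥Q := h.isP.to_sup_of_normal_left'
    (IsPGroup.of_card (n := 1) (by rw [Nat.card_zpowers, hu, pow_one]))
    ((zpowers_le.2 (h.cent huJ)).trans (centralizer_le_normalizer _))
  obtain ⟨S, hS⟩ := (hQp.of_equiv (subgroupOfEquivOfLe hQH).symm).exists_le_sylow
  have hSG : ∀ s : ↥H, s ∈ S → (s : A) ∈ G → (s : A) ∈ P := by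
    intro s hs hsG
    have heq := eq_of_le_of_isPGroup (T := (S : Subgroup ↥H).map H.subtype ⊓ G)
      (le_inf (fun x hx => ⟨⟨x, hGH (h.le hx)⟩, hS (mem_subgroupOf.2 (mem_sup_left hx)), rfl⟩) h.le)
      inf_le_right ((S.isPGroup'.map _).to_le inf_le_left) h.index
    exact heq.le ⟨⟨s, hs, rfl⟩, hsG⟩
  set u' : ↥H := ⟨u, huH⟩ with hu'
  have huS : u' ∈ S := hS (mem_subgroupOf.2 (mem_sup_right (mem_zpowers u)))
  have hu'2 : orderOf u' = 2 := by rw [← Subgroup.orderOf_coe]; exact hu
  have hiso : IsIsolatedInvolution u' := by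
    refine ZStar.isolated_of_sylow hu'2 huS fun x hx => ?_
    have hchain := Transfer.alperin S {u'} x⁻¹ (fun a ha => by rw [Set.mem_singleton_iff.1 ha]; exact huS)
      (fun a ha => by rw [Set.mem_singleton_iff.1 ha, inv_inv]; exact hx)
    suffices key : ∀ (B : Set ↥H) (k : ↥H), Transfer.FusionChain (Transfer.IsTame S) B k → u' ∈ B →
        k⁻¹ * u' * k = u' by
      have := key _ _ hchain rfl
      rwa [inv_inv] at this
    intro B k hk
    induction hk with
    | one B => intro _; simp
    | @step B D n k hD hB hn _ ih =>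
      intro hB'
      have huD : u' ∈ D := hB hB'
      have hfix : n⁻¹ * u' * n = u' := by
        obtain ⟨g, hgG, hg⟩ := memH n n.2
        have hstep : ∀ m : ↥H, (m : A) ∈ G → m ∈ normalizer (D : Set ↥H) → Commute u (m : A) := by
          intro m hmG hm
          refine h.step IH hR huJ hu2 (D := D.map H.subtype) (mem_map_of_mem _ huD) ?_ hmG
            (le_normalizer_map H.subtype (mem_map_of_mem _ hm))
          rintro _ ⟨⟨d, hd, rfl⟩, hdG⟩
          exact hSG d (hD.le hd) hdG
        rcases hg with hg | hg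
        · have hc : Commute u' n := Subtype.ext (hstep n (hg ▸ hgG) hn).eq
          rw [mul_assoc, hc.eq, inv_mul_cancel_left]
        · have hm : (((n * u' : ↥H)) : A) ∈ G := by
            show (n : A) * u ∈ G
            rw [hg, mul_assoc, hu2, mul_one]; exact hgG
          have hc : Commute u' (n * u') := Subtype.ext
            (hstep (n * u') hm (mul_mem hn (le_normalizer huD))).eq
          have hu'u : u' * u' = 1 := Subtype.ext hu2
          have hc2 : Commute u' n := by
            have := hc.mul_right (Commute.refl u')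
            rwa [mul_assoc, hu'u, mul_one] at this
          rw [mul_assoc, hc2.eq, inv_mul_cancel_left]
      have := ih ⟨u', hB', hfix⟩
      calc (n * k)⁻¹ * u' * (n * k) = k⁻¹ * (n⁻¹ * u' * n) * k := by group
        _ = u' := by rw [hfix]; exact this
  have hz := ZStar.inZStar hiso
  intro g hg
  have h1 : g * u * g⁻¹ * u⁻¹ ∈ core' 2 H := mem_map_of_mem H.subtype (hz ⟨g, hGH hg⟩)
  have h2 : g * u * g⁻¹ * u⁻¹ ∈ G := by
    rw [show g * u * g⁻¹ * u⁻¹ = g * (u * g⁻¹ * u⁻¹) by group]
    exact G.mul_mem hg ((mem_normalizer_iff.1 (h.norm huJ) _).1 (G.inv_mem hg))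
  have h3 := (core'_inf_le (p := 2) hGH) ⟨h1, h2⟩
  rw [hO, mem_bot] at h3
  exact (commutatorElement_eq_one_iff_commute.1 (by rw [commutatorElement_def]; exact h3)).symm

end Involution

/-- If `J` maps `G` into a smaller invariant subgroup, it centralises `G`. -/
theorem CentSylow.commutator_eq_bot_of_lt {G J P M : Subgroup A} [G.Normal] (h : CentSylow G J P)
    (IH : GlIH.{u} (Nat.card G)) (hO : core' 2 G = ⊥) (hMG : M ≤ G) (hne : M ≠ G)
    (hMn : ∀ j ∈ J ⊔ G, j ∈ normalizer (M : Set A)) (hidx : ¬ 2 ∣ (P ⊓ M).relIndex M)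
    (hcom : ⁅J, G⁆ ≤ M) : ⁅J, G⁆ = ⊥ := by
  have hlt : Nat.card M < Nat.card G := lt_of_le_of_ne
    (Nat.le_of_dvd Nat.card_pos (Subgroup.card_dvd_of_le hMG))
    fun he => hne (Subgroup.eq_of_le_of_card_ge hMG he.ge)
  have h0 : ⁅J, M⁆ = ⊥ := le_bot_iff.1 (hO ▸ (IH A M J (P ⊓ M) hlt
    (h.restrict hMG (fun j hj => hMn j (mem_sup_left hj)) hidx)).trans
      (core'_le_core'_of_normalized hMG fun g hg => hMn g (mem_sup_right hg)))
  have h1 : ⁅⁅J, G⁆, J⁆ = ⊥ := le_bot_iff.1 ((commutator_mono hcom le_rfl).trans (commutator_comm M J ▸ h0.le))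
  have := commutator_commutator_eq_bot_of_rotate (H₁ := J) (H₂ := J) (H₃ := G) h1 (commutator_comm G J ▸ h1)
  rwa [h.perfect] at this

theorem CentSylow.main {G J P : Subgroup A} [G.Normal] (h : CentSylow G J P)
    (IH : GlIH.{u} (Nat.card G)) : ⁅J, G⁆ ≤ core' 2 G := by
  haveI : Fact (Nat.Prime 2) := ⟨Nat.prime_two⟩
  by_cases hO : core' 2 G = ⊥
  swap
  · -- pass to `A / O(G)`
    haveI : (core' 2 G).Normal := ConjAct.normal_of_characteristic_of_normal
    set q := QuotientGroup.mk' (core' 2 G) with hq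
    have hlt : Nat.card (G.map q) < Nat.card G := by
      rw [← relIndex_ker, QuotientGroup.ker_mk']
      have hmul := relIndex_mul_relIndex ⊥ (core' 2 G) G bot_le (core'_le G)
      rw [relIndex_bot_left, relIndex_bot_left] at hmul
      have h1 : 1 < Nat.card (core' 2 G) := Subgroup.one_lt_card_iff_ne_bot _ |>.2 hO
      have h2 : 0 < (core' 2 G).relIndex G :=
        Nat.pos_of_ne_zero fun e => by simp [e, Nat.card_pos.ne] at hmul
      nlinarith
    have h1 := IH _ _ _ _ hlt (h.map q)
    intro x hx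
    have h2 : q x ∈ core' 2 (G.map q) := h1 (map_commutator J G q ▸ mem_map_of_mem q hx)
    set C := G ⊓ (core' 2 (G.map q)).comap q
    have hC : C ≤ core' 2 G := by
      refine le_core' inf_le_left ((le_inf le_normalizer ?_).trans inf_normalizer_le_normalizer_inf) ?_
      · exact (le_comap_map q G).trans ((comap_mono (le_normalizer_core' _)).trans (le_normalizer_comap q))
      · have hmul := relIndex_mul_relIndex ⊥ (core' 2 G) C bot_le
          (le_inf (core'_le G) (fun y hy => mem_comap.2 (by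
            rw [show q y = 1 from (QuotientGroup.eq_one_iff y).2 hy]; exact one_mem _)))
        rw [relIndex_bot_left, relIndex_bot_left] at hmul
        rw [← hmul]
        refine Nat.Coprime.mul_left (card_core'_coprime G) ((card_core'_coprime (G.map q)).coprime_dvd_left ?_)
        have h3 : Nat.card (C.map q) = (core' 2 G).relIndex C := by
          rw [← relIndex_ker, QuotientGroup.ker_mk']
        rw [← h3]
        exact Subgroup.card_dvd_of_le (map_le_iff_le_comap.2 inf_le_right)
    have hGn : J ≤ normalizer (G : Set A) := h.norm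
    exact hC ⟨le_normalizer_iff_commutator_le_right.1 hGn hx, h2⟩
  suffices ⁅J, G⁆ = ⊥ by rw [this]; exact bot_le
  by_cases hR : core 2 G = ⊥
  · -- the fusion case
    haveI : (centralizer (G : Set A)).Normal := inferInstance
    set q := QuotientGroup.mk' (centralizer (G : Set A)) with hq
    have hinj : ∀ g ∈ G, q g = 1 → g = 1 := by
      intro g hg hqg
      set Z := G ⊓ centralizer (G : Set A)
      have hZn : G ≤ normalizer (Z : Set A) := (le_inf le_normalizer
        (le_normalizer.trans (normalizer_le_normalizer_centralizer _))).trans inf_normalizer_le_normalizer_inf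
      have hZp : IsPGroup 2 ↥Z := isPGroup_of_forall_coprime_eq_one fun z hz hc => by
        have hzn : G ≤ normalizer (zpowers z : Set A) := fun a ha => by
          refine centralizer_le_normalizer _ (mem_centralizer_iff.2 ?_)
          rintro _ ⟨i, rfl⟩
          exact ((show Commute a z from mem_centralizer_iff.1 hz.2 a ha).zpow_right i).eq.symm
        have := le_core' (p := 2) (zpowers_le.2 hz.1) hzn (by rwa [Nat.card_zpowers])
        rw [hO] at this
        exact zpowers_eq_bot.1 (le_bot_iff.1 this)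
      have := le_core inf_le_left hZn hZp ⟨hg, (QuotientGroup.eq_one_iff g).1 hqg⟩
      rwa [hR, mem_bot] at this
    have hker : Nat.card (G.map q) = Nat.card G := by
      refine Nat.card_congr (Equiv.ofBijective (fun g : ↥G => (⟨q g, mem_map_of_mem q g.2⟩ : ↥(G.map q)))
        ⟨fun a b hab => ?_, ?_⟩).symm
      · have he := congrArg Subtype.val hab
        refine Subtype.ext (mul_inv_eq_one.1 (hinj _ (G.mul_mem a.2 (G.inv_mem b.2)) ?_))
        rw [map_mul, map_inv, mul_inv_eq_one]; exact he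
      · rintro ⟨_, g, hg, rfl⟩; exact ⟨⟨g, hg⟩, rfl⟩
    have hpull : ∀ L : Subgroup (A ⧸ centralizer (G : Set A)), L ≤ G.map q →
        G ⊓ L.comap q = ⊥ → L = ⊥ := by
      intro L hL he
      refine le_bot_iff.1 fun l hl => ?_
      obtain ⟨g, hg, rfl⟩ := hL hl
      have : g ∈ G ⊓ L.comap q := ⟨hg, hl⟩
      rw [he, mem_bot] at this
      rw [this, map_one]; exact one_mem _
    have hpn : ∀ L : Subgroup (A ⧸ centralizer (G : Set A)), G.map q ≤ normalizer (L : Set _) →
        G ≤ normalizer ((G ⊓ L.comap q : Subgroup A) : Set A) := fun L hL =>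
      (le_inf le_normalizer ((le_comap_map q G).trans ((comap_mono hL).trans (le_normalizer_comap q)))).trans
        inf_normalizer_le_normalizer_inf
    have hpc : ∀ L : Subgroup (A ⧸ centralizer (G : Set A)), L ≤ G.map q →
        Nat.card (G ⊓ L.comap q : Subgroup A) ∣ Nat.card L := by
      intro L hL
      refine Subgroup.card_dvd_of_injective ((q.comp (G ⊓ L.comap q).subtype).codRestrict L fun x => x.2.2) ?_
      refine (injective_iff_map_eq_one _).2 fun x hx => Subtype.ext (hinj x x.2.1 ?_)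
      exact congrArg Subtype.val hx
    have hO' : core' 2 (G.map q) = ⊥ := hpull _ (core'_le _) (le_bot_iff.1 (hO ▸ le_core' inf_le_left
      (hpn _ (le_normalizer_core' _)) ((card_core'_coprime _).coprime_dvd_left (hpc _ (core'_le _)))))
    have hR' : core 2 (G.map q) = ⊥ := hpull _ (core_le _) (le_bot_iff.1 (hR ▸ le_core inf_le_left
      (hpn _ (le_normalizer_core _)) (by
        obtain ⟨n, hn⟩ := IsPGroup.iff_card.1 (isPGroup_core (p := 2) (G.map q))
        obtain ⟨m, -, hm⟩ := (Nat.dvd_prime_pow Nat.prime_two).1 (hn ▸ hpc _ (core_le _))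
        exact IsPGroup.of_card hm)))
    have h' := h.map q
    have hinv : ∀ v ∈ J.map q, orderOf v = 2 → False := by
      intro v hv hv2
      have hc := h'.commute_involution (hker.symm ▸ IH) hO' hR' hv hv2
      obtain ⟨j, hj, rfl⟩ := hv
      have hjc : j ∈ centralizer (G : Set A) := by
        refine mem_centralizer_iff.2 fun g hg => (commutatorElement_eq_one_iff_commute.1 (hinj ⁅j, g⁆ ?_ ?_)).eq.symm
        · exact le_normalizer_iff_commutator_le_right.1 h.norm (commutator_mem_commutator hj hg)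
        · rw [map_commutatorElement]
          exact commutatorElement_eq_one_iff_commute.2 (hc _ (mem_map_of_mem q hg))
      rw [show q j = 1 from (QuotientGroup.eq_one_iff j).2 hjc, orderOf_one] at hv2
      omega
    have hJbot : J.map q = ⊥ := by
      refine le_bot_iff.1 (h'.gen.trans (pGen_le_iff.2 fun y hy ⟨k, hk⟩ => mem_bot.2 ?_))
      by_contra hy1
      obtain ⟨m, -, hm⟩ := (Nat.dvd_prime_pow Nat.prime_two).1 (orderOf_dvd_of_pow_eq_one hk)
      have hm0 : m ≠ 0 := fun e => hy1 (orderOf_eq_one_iff.1 (by rw [hm, e, pow_zero]))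
      refine hinv (y ^ 2 ^ (m - 1)) ((J.map q).pow_mem hy _) ?_
      rw [orderOf_pow_of_dvd (pow_ne_zero _ two_ne_zero) (hm ▸ pow_dvd_pow 2 (Nat.sub_le m 1)), hm,
        Nat.pow_div (Nat.sub_le m 1) two_pos, Nat.sub_sub_self (Nat.one_le_iff_ne_zero.2 hm0), pow_one]
    rw [Subgroup.map_eq_bot_iff, QuotientGroup.ker_mk'] at hJbot
    exact commutator_eq_bot_iff_le_centralizer.2 hJbot
  · -- `O_2(G) ≠ 1`
    set R := core 2 G with hRdef
    haveI : R.Normal := ConjAct.normal_of_characteristic_of_normal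
    have hRP : R ≤ P := by
      have := eq_of_le_of_isPGroup (T := P ⊔ R) le_sup_left (sup_le h.le (core_le G))
        (h.isP.to_sup_of_normal_right (isPGroup_core G)) h.index
      exact le_sup_right.trans this.le
    set q := QuotientGroup.mk' R with hq
    have hlt : Nat.card (G.map q) < Nat.card G := by
      rw [← relIndex_ker, QuotientGroup.ker_mk']
      have hmul := relIndex_mul_relIndex ⊥ R G bot_le (core_le G)
      rw [relIndex_bot_left, relIndex_bot_left] at hmul
      have h1 : 1 < Nat.card R := Subgroup.one_lt_card_iff_ne_bot _ |>.2 hR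
      have h2 : 0 < R.relIndex G := Nat.pos_of_ne_zero fun e => by simp [e, Nat.card_pos.ne] at hmul
      nlinarith
    have h1 := IH _ _ _ _ hlt (h.map q)
    set M := G ⊓ (core' 2 (G.map q)).comap q with hM
    have hMn : ∀ j ∈ J ⊔ G, j ∈ normalizer (M : Set A) := by
      refine fun j hj => (?_ : J ⊔ G ≤ normalizer (M : Set A)) hj
      refine (le_inf (sup_le h.norm le_normalizer) ?_).trans inf_normalizer_le_normalizer_inf
      refine (le_comap_map q _).trans ((comap_mono ?_).trans (le_normalizer_comap q))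
      rw [Subgroup.map_sup]
      exact sup_le ((h.map q).norm.trans (normalizer_le_normalizer_core' _)) (le_normalizer_core' _)
    have hidx : ∀ L : Subgroup A, L ≤ G → G ≤ normalizer (L : Set A) → ¬ 2 ∣ (P ⊓ L).relIndex L :=
      fun L hL hLn => ConjFun.not_dvd_relIndex_inf h.isP h.index hL hLn
    have hcom : ⁅J, G⁆ ≤ M := fun x hx => ⟨le_normalizer_iff_commutator_le_right.1 h.norm hx,
      h1 (map_commutator J G q ▸ mem_map_of_mem q hx)⟩
    by_cases hMG : M = G
    swap
    · exact h.commutator_eq_bot_of_lt IH hO inf_le_left hMG hMn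
        (hidx M inf_le_left fun g hg => hMn g (mem_sup_right hg)) hcom
    have hPR : P = R := le_antisymm (fun x hx => by
      have hxM : x ∈ M := hMG.symm ▸ h.le hx
      exact (QuotientGroup.eq_one_iff x).1
        (eq_one_of_mem_pGroup_of_mem (h.isP.map q) (card_core'_coprime _) (mem_map_of_mem q hx) hxM.2)) hRP
    have hJR : ⁅J, R⁆ = ⊥ := commutator_eq_bot_iff_le_centralizer.2 (hPR ▸ h.cent)
    have hGJR : ⁅⁅G, J⁆, R⁆ = ⊥ := by
      refine commutator_commutator_eq_bot_of_rotate (by rw [hJR, commutator_bot_left]) ?_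
      exact le_bot_iff.1 ((commutator_mono (commutator_le_left R G) le_rfl).trans (commutator_comm R J ▸ hJR.le))
    set C := G ⊓ centralizer (R : Set A) with hC
    have hcomC : ⁅J, G⁆ ≤ C := le_inf (le_normalizer_iff_commutator_le_right.1 h.norm)
      (commutator_eq_bot_iff_le_centralizer.1 (commutator_comm G J ▸ hGJR))
    have hCn : ∀ j ∈ J ⊔ G, j ∈ normalizer (C : Set A) := fun j hj =>
      inf_normalizer_le_normalizer_inf ⟨sup_le h.norm le_normalizer hj,
        normalizer_le_normalizer_centralizer _ (show j ∈ normalizer (R : Set A) by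
          rw [normalizer_eq_top]; exact mem_top j)⟩
    by_cases hCG : C = G
    swap
    · exact h.commutator_eq_bot_of_lt IH hO inf_le_left hCG hCn
        (hidx C inf_le_left fun g hg => hCn g (mem_sup_right hg)) hcomC
    -- a central Sylow subgroup
    have hGR : G ≤ P := by
      have hcen : G ≤ centralizer (P : Set A) := hPR ▸ hCG.ge.trans inf_le_right
      let P' : Sylow 2 ↥G := (h.isP.of_equiv (subgroupOfEquivOfLe h.le).symm).toSylow h.index
      have hP' : normalizer ((P' : Subgroup ↥G) : Set ↥G) ≤ centralizer ((P' : Subgroup ↥G) : Set ↥G) :=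
        fun g _ => mem_centralizer_iff.2 fun x hx => Subtype.ext (mem_centralizer_iff.1 (hcen g.2) _ hx)
      set K := (MonoidHom.transferSylow P' hP').ker with hK
      have hcompl := MonoidHom.ker_transferSylow_isComplement' P' hP'
      have hKodd : (Nat.card K).Coprime 2 := by
        rw [Nat.coprime_comm, Nat.prime_two.coprime_iff_not_dvd]
        intro hd
        refine P'.not_dvd_index ?_
        rwa [(hcompl : IsComplement' K (P' : Subgroup ↥G)).index_eq_card]
      have hKbot : K = ⊥ := le_bot_iff.1 fun k hk => by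
        have h3 : (k : A) ∈ core' 2 G := mem_map_of_mem G.subtype (PCore.le_pPrimeCore hKodd hk)
        rw [hO, mem_bot] at h3
        exact mem_bot.2 (Subtype.ext h3)
      have htop : (P' : Subgroup ↥G) = ⊤ := by
        have := hcompl.sup_eq_top
        rwa [← hK, hKbot, bot_sup_eq] at this
      intro g hg
      have h4 : (⟨g, hg⟩ : ↥G) ∈ (P' : Subgroup ↥G) := htop.symm ▸ mem_top _
      exact h4
    exact commutator_eq_bot_iff_le_centralizer.2 (h.cent.trans (centralizer_le (SetLike.coe_subset_coe.2 hGR)))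

/-- **Glauberman's theorem**: a perfect group generated by 2-elements which normalises `G` and centralises a
Sylow 2-subgroup of `G` acts trivially on `G / O(G)`. -/
theorem commutator_le_core'_of_centralizes_sylow {G J P : Subgroup A} (h : CentSylow G J P) :
    ⁅J, G⁆ ≤ core' 2 G := by
  suffices key : ∀ n, GlIH.{u} n from key (Nat.card G + 1) A G J P (Nat.lt_succ_self _) h
  intro n
  induction n using Nat.strong_induction_on with
  | _ n ih =>
    intro A _ _ G J P hlt h
    set N := normalizer (G : Set A) with hN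
    haveI : (G.subgroupOf N).Normal := normal_subgroupOf_of_le_normalizer le_rfl
    have hG : G ≤ N := le_normalizer
    have hcard : Nat.card (G.subgroupOf N) = Nat.card G := Nat.card_congr (subgroupOfEquivOfLe hG).toEquiv
    have h1 := (h.subgroupOf hG h.norm).main (hcard.symm ▸ ih (Nat.card G) hlt)
    have h2 := map_mono (f := N.subtype) h1
    rw [map_commutator, map_subgroupOf_eq_of_le hG, map_subgroupOf_eq_of_le h.norm] at h2
    refine h2.trans (le_core' ?_ ?_ ?_)
    · exact (map_mono (core'_le _)).trans (map_subgroupOf_eq_of_le hG).le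
    · have h3 := (map_mono (f := N.subtype) (le_normalizer_core' (p := 2) (G.subgroupOf N))).trans
        (le_normalizer_map N.subtype)
      rwa [map_subgroupOf_eq_of_le hG] at h3
    · rw [Subgroup.card_map_of_injective N.subtype_injective]
      exact card_core'_coprime _

end Cfsg.Agent.Balance
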