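import Mathlib
import Cfsg.Agent.Lib.Balance.LBalance
import Cfsg.Agent.Lib.Balance.Glauberman
import Cfsg.Agent.Lib.Components.PComponents

/-!
# L-balance for the prime 2, without hypotheses

`IsPQT.le_layer_two`: if `O(X) = 1`, `R` is a 2-subgroup and `J` is a subnormal PQT subgroup of `N(R)`,
then `J ≤ E(X)`.
-/

namespace Cfsg.Agent.Balance

open Subgroup
open scoped commutatorElement

universe u

/-- Inside a subgroup `C` onto whose image a PQT subgroup lifts there is a PQT subgroup covering it. -/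
theorem IsPQT.exists_cover {Y : Type*} [Group Y] [Finite Y] {p : ℕ} [hp : Fact p.Prime] {J : Subgroup Y}
    (h : IsPQT p J) (hJ : J.IsSubnormal) (C : Subgroup Y)
    (hlift : ∀ y ∈ J, (∃ k : ℕ, y ^ p ^ k = 1) → ∃ c ∈ C,
      QuotientGroup.mk' (pPrimeCore p Y) c = QuotientGroup.mk' (pPrimeCore p Y) y) :
    ∃ J' : Subgroup Y, J' ≤ C ∧ (J'.subgroupOf C).IsSubnormal ∧ IsPQT p J' ∧
      J ≤ J' ⊔ pPrimeCore p Y := by
  classical
  set q := QuotientGroup.mk' (pPrimeCore p Y) with hq
  set J0 := (J ⊔ pPrimeCore p Y) ⊓ C with hJ0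
  have hJne : J.map q ≠ ⊥ := fun he => h.not_coprime (by
    rw [Subgroup.map_eq_bot_iff, QuotientGroup.ker_mk'] at he
    exact PCore.coprime_card_pPrimeCore.coprime_dvd_left (Subgroup.card_dvd_of_le he))
  set 𝓛 := {L : Subgroup Y | L ≤ J0 ∧ (L.subgroupOf C).IsSubnormal ∧ J.map q ≤ L.map q}
  have hmem0 : J0 ∈ 𝓛 := by
    refine ⟨le_rfl, ?_, ?_⟩
    · rw [hJ0, inf_subgroupOf_right]
      have h1 : (J.map q).IsSubnormal := hJ.map (QuotientGroup.mk'_surjective _)
      have h2 := h1.comap q
      rw [comap_map_eq, QuotientGroup.ker_mk'] at h2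
      exact h2.comap C.subtype
    · refine (map_mono h.gen).trans (map_le_iff_le_comap.2 (pGen_le_iff.2 fun y hy hk => ?_))
      obtain ⟨c, hc, he⟩ := hlift y hy hk
      refine ⟨c, ⟨?_, hc⟩, he⟩
      have : c ∈ (J.map q).comap q := ⟨y, hy, he.symm⟩
      rwa [comap_map_eq, QuotientGroup.ker_mk'] at this
  obtain ⟨L, ⟨hL0, hLsn, hLmap⟩, hmin⟩ := Set.Finite.exists_minimal (s := 𝓛) (Set.toFinite _) ⟨J0, hmem0⟩
  have hLC : L ≤ C := hL0.trans inf_le_right
  have hLeq : L.map q = J.map q := by
    refine le_antisymm ((map_mono (hL0.trans inf_le_left)).trans ?_) hLmap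
    rw [Subgroup.map_sup, (Subgroup.map_eq_bot_iff _).2 (QuotientGroup.ker_mk' (pPrimeCore p Y)).ge, sup_bot_eq]
  have hmin' : ∀ M ≤ L, L ≤ normalizer (M : Set Y) → J.map q ≤ M.map q → M = L := by
    intro M hM hn hmap
    refine le_antisymm hM (hmin ⟨hM.trans hL0, ?_, hmap⟩ hM)
    exact isSubnormal_subgroupOf_trans hM hLC (normal_subgroupOf_of_le_normalizer hn).isSubnormal hLsn
  refine ⟨L, hLC, hLsn, ⟨?_, ?_, ?_, fun M hM hn => ?_⟩, ?_⟩
  · refine hmin' _ (le_normalizer_iff_commutator_le_right.1 le_normalizer) ?_ (le_of_eq ?_)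
    · exact le_normalizer.trans (le_normalizer_iff.2 fun x hx y hy => by
        refine (show (⁅L, L⁆).map (MulAut.conj x).toMonoidHom ≤ ⁅L, L⁆ from ?_) ⟨y, hy, rfl⟩
        rw [map_commutator, map_conj_eq_of_mem_normalizer hx])
    · rw [map_commutator, hLeq, ← map_commutator, h.perfect]
  · refine le_of_eq (hmin' _ (pGen_le L) (le_normalizer.trans (normalizer_le_normalizer_pGen L)) ?_).symm
    refine (map_mono h.gen).trans (map_le_iff_le_comap.2 (pGen_le_iff.2 fun y hy ⟨k, hk⟩ => ?_))
    obtain ⟨l, hl, hle⟩ : q y ∈ L.map q := hLmap (mem_map_of_mem q hy)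
    obtain ⟨l', hl', he', m, hm⟩ := Components.exists_pElement_lift (p := p) q (x := l) (k := k)
      (by rw [hle, ← map_pow, hk, map_one])
    exact ⟨l', mem_pGen ((zpowers_le.2 hl) hl') hm, he'.trans hle⟩
  · exact fun he => hJne (hLeq.symm.trans (by rw [he, Subgroup.map_bot]))
  · rcases (h.map q hJne).normal_alt (M.map q) ((map_mono hM).trans hLeq.le)
      (hLeq ▸ (map_mono hn).trans (le_normalizer_map q)) with he | he
    · exact Or.inl (hmin' M hM hn he.ge)
    · right
      rw [← hLeq, ← map_commutator] at he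
      refine Nat.Coprime.coprime_dvd_left ((Subgroup.card_dvd_of_le (le_comap_map q ⁅M, L⁆)).trans
        (PCore.card_comap_dvd q _)) (Nat.Coprime.mul_left ?_ he)
      rw [QuotientGroup.ker_mk']
      exact PCore.coprime_card_pPrimeCore
  · have := map_le_iff_le_comap.1 hLeq.ge
    rwa [comap_map_eq, QuotientGroup.ker_mk'] at this

/-- **L-balance for `p = 2`**, in a group with trivial odd core. -/
theorem IsPQT.le_layer_two {X : Type u} [Group X] [Finite X] (h : pPrimeCore 2 X = ⊥) :
    ∀ {R : Subgroup X}, IsPGroup 2 ↥R → ∀ {J : Subgroup X}, IsPQT 2 J → J ≤ normalizer (R : Set X) →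
      (J.subgroupOf (normalizer (R : Set X))).IsSubnormal → J ≤ layer X := by
  intro R
  induction R using WellFoundedGT.induction with
  | _ R ih =>
  haveI : Fact (Nat.Prime 2) := ⟨Nat.prime_two⟩
  intro hR J hJ hJN hsn
  set N := normalizer (R : Set X) with hNdef
  set Z := pCore 2 X with hZdef
  have hZn : Z.Normal := Components.pCore_normal' 2
  -- (a) `J` centralises `R`
  have hJR : J ≤ centralizer (R : Set X) := by
    refine commutator_eq_bot_iff_le_centralizer.1 (le_bot_iff.1 fun x hx => mem_bot.2 ?_)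
    rcases hJ.le_or_commutator_le hJN le_normalizer hsn (le_refl N) with he | he
    · exact absurd he (hJ.not_le_pGroup hR)
    · exact eq_one_of_mem_pGroup_of_coprime hR (le_normalizer_iff_commutator_le_right.1 hJN hx)
        (coprime_orderOf_of_mem_core' (he hx))
  -- (b) `J` centralises `Z`
  have hNN : N ≤ normalizer (centralizer (R : Set X) : Set X) := normalizer_le_normalizer_centralizer _
  have hJM : J ≤ centralizer ((Z ⊓ centralizer (R : Set X) : Subgroup X) : Set X) := by
    have hM : N ≤ normalizer ((Z ⊓ centralizer (R : Set X) : Subgroup X) : Set X) :=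
      (le_inf (le_of_le_of_eq le_top (normalizer_eq_top (H := Z)).symm) hNN).trans
        inf_normalizer_le_normalizer_inf
    have hMp : IsPGroup 2 ↥(Z ⊓ centralizer (R : Set X)) :=
      (Components.isPGroup_pCore' (G := X) 2).to_le inf_le_left
    refine commutator_eq_bot_iff_le_centralizer.1 (le_bot_iff.1 fun x hx => mem_bot.2 ?_)
    rcases hJ.le_or_commutator_le hJN (inf_le_right.trans (centralizer_le_normalizer _)) hsn hM with he | he
    · exact absurd he (hJ.not_le_pGroup hMp)
    · exact eq_one_of_mem_pGroup_of_coprime hMp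
        (le_normalizer_iff_commutator_le_right.1 (hJN.trans hM) hx)
        (coprime_orderOf_of_mem_core' (he hx))
  have hJZ : J ≤ centralizer (Z : Set X) := by
    refine le_of_forall_coprime_mem (p := 2) hJ.perfect
      (le_of_le_of_eq le_top (normalizer_eq_top (H := centralizer (Z : Set X))).symm) fun y hy hc => ?_
    refine mem_centralizer_iff.2 fun z hz => ?_
    refine ((commute_of_commute_fixed (Components.isPGroup_pCore' 2) hR
      (le_of_le_of_eq le_top (normalizer_eq_top (H := Z)).symm)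
      (le_of_le_of_eq le_top (normalizer_eq_top (H := Z)).symm (mem_top y)) hc
      (fun r hr => (mem_centralizer_iff.1 (hJR hy) r hr).symm) fun c hcZ hcR => ?_) z hz).eq.symm
    exact (mem_centralizer_iff.1 (hJM hy) c ⟨hcZ, mem_centralizer_iff.2 fun r hr => (hcR r hr).eq⟩).symm
  have hJc : J ≤ centR 2 R := le_inf hJR hJZ
  set H := normalizer (centR 2 R : Set X) with hHdef
  have hcN : centR 2 R ≤ N := inf_le_left.trans (centralizer_le_normalizer _)
  have hsnH : (J.subgroupOf H).IsSubnormal := by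
    refine isSubnormal_subgroupOf_trans hJc le_normalizer ?_
      (normal_subgroupOf_of_le_normalizer le_rfl).isSubnormal
    exact hsn.comap (inclusion hcN)
  have hJH : J ≤ H := hJc.trans le_normalizer
  have hlayN : H ≤ normalizer ((layer X ⊓ H : Subgroup X) : Set X) :=
    (le_inf (le_of_le_of_eq le_top (normalizer_eq_top (H := layer X)).symm) le_normalizer).trans
      inf_normalizer_le_normalizer_inf
  rcases hJ.le_or_commutator_le hJH inf_le_right hsnH hlayN with he | hcom
  · exact he.trans inf_le_left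
  have hNH : N ≤ H :=
    (le_inf hNN (le_of_le_of_eq le_top (normalizer_eq_top (H := centralizer (Z : Set X))).symm)).trans
      inf_normalizer_le_normalizer_inf
  set E := layer X with hE
  have hEn : ∀ x : X, x ∈ normalizer (E : Set X) := fun x =>
    (normalizer_eq_top (H := E)).symm ▸ mem_top x
  by_cases hsyl : ¬ 2 ∣ (R ⊓ E).relIndex E
  · -- `J` centralises a Sylow subgroup of the layer
    exfalso
    have hG := commutator_le_core'_of_centralizes_sylow (G := E) (J := J) (P := R ⊓ E)
      ⟨hJ.perfect, hJ.gen, fun j _ => hEn j, inf_le_right, hR.to_le inf_le_left, hsyl,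
        hJR.trans (centralizer_le (SetLike.coe_subset_coe.2 inf_le_left))⟩
    have hJE : J ≤ centralizer (E : Set X) := commutator_eq_bot_iff_le_centralizer.1 (le_bot_iff.1
      (h ▸ hG.trans (core'_le_pPrimeCore_of_isSubnormal (inferInstance : E.Normal).isSubnormal)))
    have hle : generalizedFittingSubgroup X ≤ centralizer (J : Set X) := sup_le
      (le_centralizer_iff.1 hJE) (le_centralizer_iff.1 (by rwa [fitting_eq_pCore h]))
    have hJF : J ≤ generalizedFittingSubgroup X :=
      (le_centralizer_iff.1 hle).trans Components.centralizer_generalizedFittingSubgroup_le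
    refine hJ.ne_bot (hJ.perfect.symm.trans (commutator_eq_bot_iff_le_centralizer.2 (hJF.trans hle)))
  push Not at hsyl
  -- a 2-subgroup `W` of `N_E(R)` not contained in `R`
  have hRN : R ≤ normalizer (E : Set X) := fun r _ => hEn r
  obtain ⟨S, hS⟩ := (hR.of_equiv (subgroupOfEquivOfLe (le_sup_right : R ≤ E ⊔ R)).symm).exists_le_sylow
  set S' := (S : Subgroup ↥(E ⊔ R)).map (E ⊔ R).subtype with hS'
  have hRS : R ≤ S' := by
    rw [← map_subgroupOf_eq_of_le (le_sup_right : R ≤ E ⊔ R)]
    exact map_mono hS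
  have hS'p : IsPGroup 2 ↥S' := S.isPGroup'.map _
  have hlt : R < S' := lt_of_le_of_ne hRS fun e => by
    have := ConjFun.not_dvd_relIndex_inf (L := E) hS'p (ConjFun.not_dvd_relIndex_of_sylow S) le_sup_left
      fun x _ => hEn x
    rw [← e] at this
    exact this hsyl
  obtain ⟨y, hy, hyR⟩ := SetLike.exists_of_lt (Transfer.lt_inf_normalizer_of_lt hS'p hlt)
  obtain ⟨e, he, r, hr, rfl⟩ : ∃ e ∈ E, ∃ r ∈ R, e * r = y := by
    have h2 : y ∈ ((E ⊔ R : Subgroup X) : Set X) := map_subtype_le _ hy.1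
    rwa [coe_mul_of_right_le_normalizer_left E R hRN, Set.mem_mul] at h2
  set W := S' ⊓ E ⊓ N with hW
  have heW : e ∈ W := by
    have : e = e * r * r⁻¹ := by group
    refine ⟨⟨?_, he⟩, ?_⟩
    · exact this ▸ S'.mul_mem hy.1 (S'.inv_mem (hRS hr))
    · exact this ▸ N.mul_mem hy.2 (N.inv_mem (le_normalizer hr))
  have hWN : W ≤ N := inf_le_right
  have hWp : IsPGroup 2 ↥W := hS'p.to_le (inf_le_left.trans inf_le_left)
  set R' := R ⊔ W with hR'
  have hRR' : R < R' := lt_of_le_of_ne le_sup_left fun e' =>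
    hyR (R.mul_mem (e'.symm.le (mem_sup_right heW)) hr)
  have hR'p : IsPGroup 2 ↥R' := hS'p.to_le (sup_le hRS (inf_le_left.trans inf_le_left))
  have hWE : W ≤ E ⊓ H := le_inf (inf_le_left.trans inf_le_right) (hWN.trans hNH)
  -- cover `J` inside `C(R')`
  set q := QuotientGroup.mk' (pPrimeCore 2 ↥N) with hq
  set C : Subgroup ↥N := (centralizer (R' : Set X)).subgroupOf N
  obtain ⟨J', hJ'C, hJ'sn, hJ', hcov⟩ := (hJ.subgroupOf hJN).exists_cover hsn C fun y hy _ => by
    have hcomm : ∀ w ∈ W.subgroupOf N, Commute (q y) (q w) := by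
      intro w hw
      refine commutatorElement_eq_one_iff_commute.1 ?_
      rw [← map_commutatorElement]
      refine (QuotientGroup.eq_one_iff ⁅y, w⁆).2 ?_
      have h1 : (⁅y, w⁆ : ↥N).1 ∈ core' 2 H :=
        hcom (commutator_mem_commutator (show (y : X) ∈ J from hy) (hWE hw))
      obtain ⟨o, ho, hoe⟩ := core'_inf_le (p := 2) hNH ⟨h1, (⁅y, w⁆ : ↥N).2⟩
      exact (Subtype.ext hoe : o = ⁅y, w⁆) ▸ ho
    obtain ⟨c, hc, hce⟩ := exists_mem_centralizer_of_map q
      (by rw [QuotientGroup.ker_mk']; exact PCore.coprime_card_pPrimeCore)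
      (hWp.of_equiv (subgroupOfEquivOfLe hWN).symm) (g := y) hcomm
    refine ⟨c, mem_subgroupOf.2 ?_, hce⟩
    have hcR : (c : X) ∈ centralizer (R : Set X) := by
      -- `c ∈ y O(N)` and `O(N)` centralises `R`
      have ho : y⁻¹ * c ∈ pPrimeCore 2 ↥N := QuotientGroup.eq.1 hce.symm
      have hoR : ((y⁻¹ * c : ↥N) : X) ∈ centralizer (R : Set X) := by
        refine mem_centralizer_iff.2 fun r hr => (commutatorElement_eq_one_iff_commute.1
          (eq_one_of_mem_pGroup_of_mem hR (card_core'_coprime (p := 2) N) ?_ ?_)).eq.symm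
        · rw [commutatorElement_def]
          exact R.mul_mem ((mem_normalizer_iff.1 (y⁻¹ * c : ↥N).2 r).1 hr) (R.inv_mem hr)
        · rw [commutatorElement_def, mul_assoc, mul_assoc, ← mul_assoc r]
          exact mul_mem (mem_map_of_mem N.subtype ho)
            ((mem_normalizer_iff.1 (le_normalizer_core' N (le_normalizer hr)) _).1
              (inv_mem (mem_map_of_mem N.subtype ho)))
      have := (centralizer (R : Set X)).mul_mem (hJR (show (y : X) ∈ J from hy)) hoR
      simpa using this
    have hcW : (c : X) ∈ centralizer (W : Set X) := mem_centralizer_iff.2 fun w hw =>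
      congrArg Subtype.val (mem_centralizer_iff.1 hc ⟨w, hWN hw⟩ hw)
    refine le_centralizer_iff.1 (sup_le ?_ ?_) (mem_zpowers (c : X))
    · exact le_centralizer_iff.1 (zpowers_le.2 hcR)
    · exact le_centralizer_iff.1 (zpowers_le.2 hcW)
  set J'' := J'.map N.subtype with hJ''
  have hCR' : centralizer (R' : Set X) ≤ N :=
    (centralizer_le (SetLike.coe_subset_coe.2 le_sup_left)).trans (centralizer_le_normalizer _)
  have hJ''C : J'' ≤ centralizer (R' : Set X) := (map_mono hJ'C).trans (map_subgroupOf_eq_of_le hCR').le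
  have hJ''E : J'' ≤ E := by
    refine ih R' hRR' hR'p (hJ'.map N.subtype fun he => hJ'.ne_bot
      ((map_eq_bot_iff_of_injective _ N.subtype_injective).1 he))
      (hJ''C.trans (centralizer_le_normalizer _)) ?_
    refine isSubnormal_subgroupOf_trans hJ''C (centralizer_le_normalizer _) ?_
      (normal_subgroupOf_of_le_normalizer (normalizer_le_normalizer_centralizer _)).isSubnormal
    have h3 := hJ'sn.comap (subgroupOfEquivOfLe hCR').symm.toMonoidHom
    convert h3 using 1
    ext a
    constructor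
    · rintro ⟨b, hb, hbe⟩
      simp only [mem_comap, mem_subgroupOf]
      have he : b = (((subgroupOfEquivOfLe hCR').symm a : ↥((centralizer (R' : Set X)).subgroupOf N)) : ↥N) :=
        Subtype.ext hbe
      exact he ▸ hb
    · intro ha
      exact ⟨_, ha, rfl⟩
  -- `J ≤ J'' O(N)`, so `J ≤ E`
  set f := QuotientGroup.mk' E with hf
  refine hJ.gen.trans (pGen_le_iff.2 fun y hy ⟨k, hk⟩ => ?_)
  have h1 : y ∈ J'' ⊔ core' 2 N := by
    have := mem_map_of_mem N.subtype (hcov (show (⟨y, hJN hy⟩ : ↥N) ∈ J.subgroupOf N from hy))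
    rwa [Subgroup.map_sup] at this
  have h2 : f y ∈ (core' 2 N).map f := by
    have := mem_map_of_mem f h1
    rwa [Subgroup.map_sup, (Subgroup.map_eq_bot_iff _).2 (hJ''E.trans (QuotientGroup.ker_mk' E).ge),
      bot_sup_eq] at this
  refine (QuotientGroup.eq_one_iff y).1 (eq_one_of_mem_pGroup_of_coprime (p := 2)
    (P := zpowers (f y)) ?_ (mem_zpowers _)
    ((card_core'_coprime N).coprime_dvd_left ((Subgroup.orderOf_dvd_natCard _ h2).trans (card_map_dvd _ _))))
  exact fun z => ⟨k, by
    obtain ⟨i, hi⟩ := mem_zpowers_iff.1 z.2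
    refine Subtype.ext ?_
    rw [SubmonoidClass.coe_pow, ← hi, ← zpow_natCast, ← zpow_mul, mul_comm, zpow_mul, zpow_natCast,
      ← map_pow, hk, map_one, one_zpow, OneMemClass.coe_one]⟩

/-- **L-balance for `p = 2`**: a subnormal PQT subgroup of the normalizer of a 2-subgroup lies in the 2-layer. -/
theorem IsPQT.le_pLayer_two {X : Type u} [Group X] [Finite X] {R : Subgroup X} (hR : IsPGroup 2 ↥R)
    {J : Subgroup X} (hJ : IsPQT 2 J) (hJN : J ≤ normalizer (R : Set X))
    (hsn : (J.subgroupOf (normalizer (R : Set X))).IsSubnormal) : J ≤ pLayer 2 X := by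
  haveI : Fact (Nat.Prime 2) := ⟨Nat.prime_two⟩
  set q := QuotientGroup.mk' (pPrimeCore 2 X) with hq
  have hker : (Nat.card ↥q.ker).Coprime 2 := by
    rw [hq, QuotientGroup.ker_mk']
    exact PCore.coprime_card_pPrimeCore
  have hne : J.map q ≠ ⊥ := fun he => hJ.not_coprime (by
    rw [Subgroup.map_eq_bot_iff, hq, QuotientGroup.ker_mk'] at he
    exact PCore.coprime_card_pPrimeCore.coprime_dvd_left (Subgroup.card_dvd_of_le he))
  set N := normalizer (R : Set X) with hN
  set N' := normalizer (R.map q : Set (X ⧸ pPrimeCore 2 X)) with hN'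
  have hle : ∀ n : ↥N, q n ∈ N' := fun n => le_normalizer_map q (mem_map_of_mem q n.2)
  set g : ↥N →* ↥N' := (q.comp N.subtype).codRestrict N' hle with hg
  have hsurj : Function.Surjective g := by
    rintro ⟨y, hy⟩
    obtain ⟨a, rfl⟩ := QuotientGroup.mk'_surjective (pPrimeCore 2 X) y
    obtain ⟨n, hn, he⟩ := exists_mem_normalizer_of_map q hker hR hy
    exact ⟨⟨n, hn⟩, Subtype.ext he⟩
  have heq : (J.map q).subgroupOf N' = (J.subgroupOf N).map g := by
    ext z
    constructor
    · rintro ⟨x, hx, he⟩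
      exact ⟨⟨x, hJN hx⟩, hx, Subtype.ext he⟩
    · rintro ⟨x, hx, rfl⟩
      exact ⟨x, hx, rfl⟩
  have hlay : J.map q ≤ layer (X ⧸ pPrimeCore 2 X) := by
    refine IsPQT.le_layer_two PCore.pPrimeCore_quotient_self_eq_bot (hR.map q) (hJ.map q hne) ?_ ?_
    · rintro _ ⟨x, hx, rfl⟩
      exact hle ⟨x, hJN hx⟩
    · rw [heq]
      exact hsn.map hsurj
  exact hJ.gen.trans (pGen_le_iff.2 fun y hy ⟨k, hk⟩ =>
    mem_pLayer_of_mk_mem_layer hk (hlay (mem_map_of_mem q hy)))

/-- **L-balance for `p = 2`**: `L_{2'}(N(R)) ≤ L_{2'}(X)`. -/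
theorem map_pLayer_normalizer_le {X : Type u} [Group X] [Finite X] {R : Subgroup X} (hR : IsPGroup 2 ↥R) :
    (pLayer 2 ↥(normalizer (R : Set X))).map (normalizer (R : Set X)).subtype ≤ pLayer 2 X := by
  haveI : Fact (Nat.Prime 2) := ⟨Nat.prime_two⟩
  refine map_le_iff_le_comap.2 (sSup_le fun I hI => map_le_iff_le_comap.1 ?_)
  have hP := isPQT_of_isPComponent hI
  refine IsPQT.le_pLayer_two hR (hP.map _ fun he => hP.ne_bot
    ((map_eq_bot_iff_of_injective _ (normalizer (R : Set X)).subtype_injective).1 he)) (map_subtype_le _) ?_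
  rw [Subgroup.subgroupOf, comap_map_eq_self_of_injective (Subgroup.subtype_injective _)]
  exact hI.1

/-- **L-balance for `p = 2`**: `L_{2'}(C(R)) ≤ L_{2'}(X)`. -/
theorem map_pLayer_centralizer_le {X : Type u} [Group X] [Finite X] {R : Subgroup X} (hR : IsPGroup 2 ↥R) :
    (pLayer 2 ↥(centralizer (R : Set X))).map (centralizer (R : Set X)).subtype ≤ pLayer 2 X := by
  haveI : Fact (Nat.Prime 2) := ⟨Nat.prime_two⟩
  refine map_le_iff_le_comap.2 (sSup_le fun I hI => map_le_iff_le_comap.1 ?_)
  have hP := isPQT_of_isPComponent hI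
  refine IsPQT.le_pLayer_two hR (hP.map _ fun he => hP.ne_bot
    ((map_eq_bot_iff_of_injective _ (centralizer (R : Set X)).subtype_injective).1 he))
    ((map_subtype_le _).trans (centralizer_le_normalizer _)) ?_
  refine isSubnormal_subgroupOf_trans (map_subtype_le I) (centralizer_le_normalizer _) ?_
    (normal_subgroupOf_of_le_normalizer (normalizer_le_normalizer_centralizer _)).isSubnormal
  rw [Subgroup.subgroupOf, comap_map_eq_self_of_injective (Subgroup.subtype_injective _)]
  exact hI.1

end Cfsg.Agent.Balance
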