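import Mathlib
import Cfsg.Agent.Lib.Balance.BPBalance
import Cfsg.Agent.Lib.Components.Layer
import Cfsg.Agent.Lib.Components.GenFitting

/-!
# The pumpup of a component of the centralizer of an involution

`component_pumpup`: a component `K` of `C(a)` inside the layer lies in an `a`-invariant component, or is the
diagonal `{j (a j a)}` of a pair of components exchanged by `a`.
-/

namespace Cfsg.Agent.Balance

open Subgroup
open scoped commutatorElement

universe u

variable {Y : Type u} [Group Y] [Finite Y]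

theorem component_pumpup {a : Y} (ha : a * a = 1) {K : Subgroup Y} (hKa : K ≤ centralizer ({a} : Set Y))
    (hK : IsComponent (K.subgroupOf (centralizer ({a} : Set Y)))) (hKE : K ≤ layer Y) :
    ∃ J : Subgroup Y, IsComponent J ∧ ¬ K ≤ centralizer (J : Set Y) ∧
      ((a ∈ normalizer (J : Set Y) ∧ K ≤ J) ∨
        (J.map (MulAut.conj a).toMonoidHom ≠ J ∧ K ≤ J ⊔ J.map (MulAut.conj a).toMonoidHom ∧
          ∃ f : ↥J →* ↥K, Function.Surjective f ∧ ∀ j : ↥J, (f j : Y) = (j : Y) * (a * j * a))) := by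
  classical
  set C := centralizer ({a} : Set Y) with hC
  have hai : a⁻¹ = a := inv_eq_of_mul_eq_one_right ha
  have hKqs : IsQuasisimple ↥K := by
    have := Components.IsQuasisimple.map_injective hK.2 C.subtype_injective
    rwa [map_subgroupOf_eq_of_le hKa] at this
  have hKK : ⁅K, K⁆ = K := Components.IsQuasisimple.commutator_self hKqs
  have hKne : K ≠ ⊥ := Components.IsQuasisimple.ne_bot hKqs
  obtain ⟨J, hJ, hJK⟩ : ∃ J : Subgroup Y, IsComponent J ∧ ¬ K ≤ centralizer (J : Set Y) := by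
    by_contra hne
    push Not at hne
    refine hKne (hKK.symm.trans (commutator_eq_bot_iff_le_centralizer.2 ?_))
    have h1 : layer Y ≤ centralizer (K : Set Y) := sSup_le fun L hL => le_centralizer_iff.1 (hne L hL)
    exact hKE.trans h1
  set J' := J.map (MulAut.conj a).toMonoidHom with hJ'def
  have hJ' : IsComponent J' := Components.IsComponent.conj hJ a
  have hmemJ' : ∀ x, x ∈ J' ↔ a * x * a ∈ J := by
    intro x
    constructor
    · rintro ⟨j, hj, rfl⟩
      show a * (a * j * a⁻¹) * a ∈ J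
      rw [hai, show a * (a * j * a) * a = (a * a) * j * (a * a) by group, ha, one_mul, mul_one]
      exact hj
    · intro hx
      exact ⟨_, hx, by
        show a * (a * x * a) * a⁻¹ = x
        rw [hai, show a * (a * x * a) * a = (a * a) * x * (a * a) by group, ha, one_mul, mul_one]⟩
  have hJ'' : J'.map (MulAut.conj a).toMonoidHom = J := by
    rw [hJ'def, ← map_conj_mul, ha, map_conj_one]
  set others : {L : Subgroup Y // IsComponent L ∧ L ≠ J ∧ L ≠ J'} → Subgroup Y := fun L => (L : Subgroup Y) with hoth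
  set R := ⨆ L, others L with hR
  set P := J ⊔ J' with hP
  have hRP : R ≤ centralizer (P : Set Y) := iSup_le fun L => le_centralizer_iff.1 (sup_le
    (le_centralizer_iff.1 (commutator_eq_bot_iff_le_centralizer.1
      (Components.IsComponent.commutator_eq_bot L.2.1 hJ L.2.2.1)))
    (le_centralizer_iff.1 (commutator_eq_bot_iff_le_centralizer.1
      (Components.IsComponent.commutator_eq_bot L.2.1 hJ' L.2.2.2))))
  have hPR : layer Y ≤ P ⊔ R := sSup_le fun L hL => by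
    by_cases h1 : L = J
    · exact h1 ▸ le_sup_left.trans le_sup_left
    by_cases h2 : L = J'
    · exact h2 ▸ le_sup_right.trans le_sup_left
    exact (le_iSup others ⟨L, hL, h1, h2⟩).trans le_sup_right
  have haP : ∀ x ∈ P, a * x * a⁻¹ ∈ P := by
    have : P.map (MulAut.conj a).toMonoidHom ≤ P := by
      rw [hP, Subgroup.map_sup, ← hJ'def, hJ'', sup_comm]
    exact fun x hx => this ⟨x, hx, rfl⟩
  have haR : ∀ x ∈ R, a * x * a⁻¹ ∈ R := by
    have : R.map (MulAut.conj a).toMonoidHom ≤ R := by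
      rw [hR, Subgroup.map_iSup]
      refine iSup_le fun L => le_iSup others ⟨(L : Subgroup Y).map (MulAut.conj a).toMonoidHom,
        Components.IsComponent.conj L.2.1 a, fun he => L.2.2.2 ?_, fun he => L.2.2.1 ?_⟩
      · have := congrArg (Subgroup.map (MulAut.conj a).toMonoidHom) he
        rwa [← map_conj_mul, ha, map_conj_one] at this
      · exact map_injective (MulAut.conj a).injective he
    exact fun x hx => this ⟨x, hx, rfl⟩
  -- decomposition of `K`
  have hdec : K ≤ (P ⊓ C) ⊔ (R ⊓ C) := by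
    refine hKK.ge.trans (Subgroup.commutator_le.2 fun k₁ h₁ k₂ h₂ => ?_)
    have split : ∀ k ∈ K, ∃ u ∈ P, ∃ v ∈ R, u * v = k ∧
        (u⁻¹ * (a * u * a⁻¹) ∈ P ∧ u⁻¹ * (a * u * a⁻¹) ∈ centralizer (P : Set Y)) ∧
        (v⁻¹ * (a * v * a⁻¹) ∈ R ∧ v⁻¹ * (a * v * a⁻¹) ∈ centralizer (R : Set Y)) := by
      intro k hk
      have h1 := hPR (hKE hk)
      rw [← SetLike.mem_coe, coe_mul_of_right_le_normalizer_left P R (hRP.trans (centralizer_le_normalizer _)),
        Set.mem_mul] at h1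
      obtain ⟨u, hu, v, hv, rfl⟩ := h1
      have hfix : (a * u * a⁻¹) * (a * v * a⁻¹) = u * v := by
        rw [show a * u * a⁻¹ * (a * v * a⁻¹) = a * (u * v) * a⁻¹ by group,
          ← mem_centralizer_singleton_iff.1 (hKa hk), mul_inv_cancel_right]
      have e1 : u⁻¹ * (a * u * a⁻¹) = v * (a * v * a⁻¹)⁻¹ := by
        rw [eq_mul_inv_iff_mul_eq, mul_assoc, hfix, inv_mul_cancel_left]
      have hcuv : Commute u v := mem_centralizer_iff.1 (hRP hv) u hu
      have hcuv' : Commute (a * u * a⁻¹) v := mem_centralizer_iff.1 (hRP hv) _ (haP u hu)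
      have e2 : v⁻¹ * (a * v * a⁻¹) = (a * u * a⁻¹)⁻¹ * u := by
        rw [eq_inv_mul_iff_mul_eq, ← mul_assoc, hcuv'.inv_right.eq, mul_assoc, hfix, hcuv.eq, inv_mul_cancel_left]
      refine ⟨u, hu, v, hv, rfl, ⟨P.mul_mem (P.inv_mem hu) (haP u hu), ?_⟩,
        R.mul_mem (R.inv_mem hv) (haR v hv), ?_⟩
      · rw [e1]
        exact hRP (R.mul_mem hv (R.inv_mem (haR v hv)))
      · rw [e2]
        exact le_centralizer_iff.1 hRP (P.mul_mem (P.inv_mem (haP u hu)) hu)
    obtain ⟨u₁, hu₁, v₁, hv₁, rfl, ⟨p₁, q₁⟩, r₁, s₁⟩ := split k₁ h₁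
    obtain ⟨u₂, hu₂, v₂, hv₂, rfl, ⟨p₂, q₂⟩, r₂, s₂⟩ := split k₂ h₂
    have huP : ⁅u₁, u₂⁆ ∈ P := P.commutator_le_self (commutator_mem_commutator hu₁ hu₂)
    have hvR : ⁅v₁, v₂⁆ ∈ R := R.commutator_le_self (commutator_mem_commutator hv₁ hv₂)
    have huC : ⁅u₁, u₂⁆ ∈ C := mem_centralizer_singleton_iff.2
      (commute_commutatorElement hu₁ hu₂ q₁ q₂ p₁).eq.symm
    have hvC : ⁅v₁, v₂⁆ ∈ C := mem_centralizer_singleton_iff.2
      (commute_commutatorElement hv₁ hv₂ s₁ s₂ r₁).eq.symm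
    have c12 : Commute v₁ u₂ := (mem_centralizer_iff.1 (hRP hv₁) u₂ hu₂).symm
    have hw : v₁ * v₂ * v₁⁻¹ ∈ R := R.mul_mem (R.mul_mem hv₁ hv₂) (R.inv_mem hv₁)
    have cw : Commute u₁ (v₁ * v₂ * v₁⁻¹) := mem_centralizer_iff.1 (hRP hw) u₁ hu₁
    have c2 : Commute u₂ ⁅v₁, v₂⁆ := mem_centralizer_iff.1 (hRP hvR) u₂ hu₂
    have e : ⁅u₁ * v₁, u₂ * v₂⁆ = ⁅u₁, u₂⁆ * ⁅v₁, v₂⁆ := by
      calc ⁅u₁ * v₁, u₂ * v₂⁆ = u₁ * (v₁ * u₂) * v₂ * v₁⁻¹ * u₁⁻¹ * v₂⁻¹ * u₂⁻¹ := by
            rw [commutatorElement_def]; group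
        _ = u₁ * u₂ * ((v₁ * v₂ * v₁⁻¹) * u₁⁻¹) * v₂⁻¹ * u₂⁻¹ := by rw [c12.eq]; group
        _ = u₁ * u₂ * u₁⁻¹ * (⁅v₁, v₂⁆ * u₂⁻¹) := by
            rw [← cw.inv_left.eq, commutatorElement_def]; group
        _ = ⁅u₁, u₂⁆ * ⁅v₁, v₂⁆ := by
            rw [← c2.inv_left.eq, commutatorElement_def u₁ u₂]; group
    rw [e]
    exact mul_mem (mem_sup_left ⟨huP, huC⟩) (mem_sup_right ⟨hvR, hvC⟩)
  set M := (P ⊓ C) ⊔ (R ⊓ C) with hM
  have hMC : M ≤ C := sup_le inf_le_right inf_le_right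
  have hKM : IsComponent (K.subgroupOf M) :=
    ⟨hK.1.comap (inclusion hMC), Components.IsQuasisimple.subgroupOf_of_le hKqs hdec⟩
  have hnP : M ≤ normalizer ((P ⊓ C : Subgroup Y) : Set Y) := sup_le le_normalizer
    ((le_centralizer_iff.1 ((inf_le_left.trans (le_centralizer_iff.1 hRP)).trans
      (centralizer_le (SetLike.coe_subset_coe.2 inf_le_left)))).trans (centralizer_le_normalizer _))
  have hnR : M ≤ normalizer ((R ⊓ C : Subgroup Y) : Set Y) := sup_le
    (((inf_le_left.trans (le_centralizer_iff.1 hRP)).trans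
      (centralizer_le (SetLike.coe_subset_coe.2 inf_le_left))).trans (centralizer_le_normalizer _)) le_normalizer
  have halt : ∀ Q, Q ≤ M → M ≤ normalizer (Q : Set Y) → K ≤ Q ∨ Q ≤ centralizer (K : Set Y) := by
    intro Q hQ hQn
    have : (Q.subgroupOf M).Normal := normal_subgroupOf_of_le_normalizer hQn
    rcases Components.IsComponent.le_or_commutator_eq_bot_of_normal hKM (Q.subgroupOf M) with h | h
    · left
      have := map_mono (f := M.subtype) h
      rwa [map_subgroupOf_eq_of_le hdec, map_subgroupOf_eq_of_le hQ] at this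
    · right
      have := congrArg (Subgroup.map M.subtype) h
      rw [map_commutator, map_subgroupOf_eq_of_le hdec, map_subgroupOf_eq_of_le hQ, Subgroup.map_bot] at this
      exact le_centralizer_iff.1 (commutator_eq_bot_iff_le_centralizer.1 this)
  have hKP : K ≤ P := by
    rcases halt _ le_sup_left hnP with h | h
    · exact h.trans inf_le_left
    rcases halt _ le_sup_right hnR with h' | h'
    · exact absurd ((h'.trans inf_le_left).trans (hRP.trans (centralizer_le (SetLike.coe_subset_coe.2 le_sup_left)))) hJK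
    · refine absurd (hKK.symm.trans (commutator_eq_bot_iff_le_centralizer.2 ?_)) hKne
      exact (hdec.trans (sup_le h h'))
  refine ⟨J, hJ, hJK, ?_⟩
  by_cases hfix : J' = J
  · left
    refine ⟨mem_normalizer_of_map_conj_eq hfix, hKP.trans ?_⟩
    rw [hP, hfix, sup_idem]
  right
  refine ⟨hfix, hKP, ?_⟩
  have hcomm : ∀ x ∈ J, ∀ y ∈ J', Commute x y := fun x hx y hy =>
    (mem_centralizer_iff.1 (commutator_eq_bot_iff_le_centralizer.1
      (Components.IsComponent.commutator_eq_bot hJ hJ' (Ne.symm hfix)) hx) y hy).symm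
  have haJ : ∀ j ∈ J, a * j * a ∈ J' := fun j hj => ⟨j, hj, by show a * j * a⁻¹ = _; rw [hai]⟩
  have hinv : ∀ x : Y, a * (a * x * a) * a = x := fun x => by
    rw [show a * (a * x * a) * a = (a * a) * x * (a * a) by group, ha, one_mul, mul_one]
  let φ : ↥J →* Y := MonoidHom.mk' (fun j => (j : Y) * (a * j * a)) fun i j => by
    show ((i * j : ↥J) : Y) * (a * ((i * j : ↥J) : Y) * a) = (i : Y) * (a * i * a) * ((j : Y) * (a * j * a))
    have h1 : a * ((i : Y) * j) * a = (a * i * a) * (a * j * a) := by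
      rw [show a * (i : Y) * a * (a * j * a) = a * i * (a * a) * j * a by group, ha]; group
    rw [Subgroup.coe_mul, h1]
    calc (i : Y) * j * ((a * i * a) * (a * j * a)) = i * (j * (a * i * a)) * (a * j * a) := by group
      _ = i * ((a * i * a) * j) * (a * j * a) := by rw [(hcomm j j.2 _ (haJ i i.2)).eq]
      _ = (i : Y) * (a * i * a) * ((j : Y) * (a * j * a)) := by group
  have hφC : φ.range ≤ C := by
    rintro _ ⟨j, rfl⟩
    refine mem_centralizer_singleton_iff.2 ?_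
    show (j : Y) * (a * j * a) * a = a * ((j : Y) * (a * j * a))
    calc (j : Y) * (a * j * a) * a = a * j * a * j * a := by rw [(hcomm j j.2 _ (haJ j j.2)).eq]
      _ = a * ((j : Y) * (a * j * a)) := by group
  have hKφ : K ≤ φ.range := by
    refine hKK.ge.trans (Subgroup.commutator_le.2 fun k₁ h₁ k₂ h₂ => ?_)
    have split : ∀ k ∈ K, ∃ u ∈ J, ∃ z, (∀ x ∈ J, Commute z (a * x * a)) ∧ z ∈ J' ∧ (∀ x ∈ J', Commute z x) ∧
        k = u * ((a * u * a) * z) := by
      intro k hk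
      have h1 := hKP hk
      rw [← SetLike.mem_coe, coe_mul_of_right_le_normalizer_left J J' (Components.IsComponent.le_normalizer hJ' hJ),
        Set.mem_mul] at h1
      obtain ⟨u, hu, v, hv, rfl⟩ := h1
      have hv' : a * v * a ∈ J := (hmemJ' v).1 hv
      have hfix' : (a * u * a) * (a * v * a) = u * v := by
        rw [show a * u * a * (a * v * a) = a * u * (a * a) * v * a by group, ha, mul_one,
          show a * u * v * a = a * (u * v) * a by group, ← mem_centralizer_singleton_iff.1 (hKa hk),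
          mul_assoc (u * v), ha, mul_one]
      have hz : u⁻¹ * (a * v * a) = v * (a * u * a)⁻¹ := by
        rw [eq_mul_inv_iff_mul_eq, mul_assoc, (hcomm _ hv' _ (haJ u hu)).eq, hfix', inv_mul_cancel_left]
      refine ⟨u, hu, (a * u * a)⁻¹ * v, ?_, J'.mul_mem (J'.inv_mem (haJ u hu)) hv, ?_, by group⟩
      all_goals
        have hzJ : (a * u * a)⁻¹ * v ∈ J := by
          have h2 : v * (a * u * a)⁻¹ ∈ J := hz ▸ J.mul_mem (J.inv_mem hu) hv'
          have h3 := (hcomm _ h2 _ (J'.inv_mem (haJ u hu))).eq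
          rwa [show (a * u * a)⁻¹ * v = v * (a * u * a)⁻¹ from by
            calc (a * u * a)⁻¹ * v = (a * u * a)⁻¹ * (v * (a * u * a)⁻¹) * (a * u * a) := by group
              _ = (v * (a * u * a)⁻¹) * (a * u * a)⁻¹ * (a * u * a) := by rw [h3]
              _ = v * (a * u * a)⁻¹ := by group]
      · exact fun x hx => hcomm _ hzJ _ (haJ x hx)
      · exact fun x hx => hcomm _ hzJ _ hx
    obtain ⟨u₁, hu₁, z₁, -, hz₁', hz₁, rfl⟩ := split k₁ h₁
    obtain ⟨u₂, hu₂, z₂, -, hz₂', hz₂, rfl⟩ := split k₂ h₂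
    refine ⟨⁅(⟨u₁, hu₁⟩ : ↥J), ⟨u₂, hu₂⟩⁆, ?_⟩
    show ⁅u₁, u₂⁆ * (a * ⁅u₁, u₂⁆ * a) = _
    set w₁ := a * u₁ * a with hw₁
    set w₂ := a * u₂ * a with hw₂
    have hw₁' : w₁ ∈ J' := haJ u₁ hu₁
    have hw₂' : w₂ ∈ J' := haJ u₂ hu₂
    have e3 : a * ⁅u₁, u₂⁆ * a = ⁅w₁ * z₁, w₂ * z₂⁆ := by
      have e4 : a * ⁅u₁, u₂⁆ * a = ⁅w₁, w₂⁆ := by
        rw [hw₁, hw₂]
        have h5 : ∀ x y : Y, a * (x * y) * a = (a * x * a) * (a * y * a) := fun x y => by
          rw [show a * x * a * (a * y * a) = a * x * (a * a) * y * a by group, ha]; group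
        have h6 : ∀ x : Y, a * x⁻¹ * a = (a * x * a)⁻¹ := fun x => by
          rw [mul_inv_rev, mul_inv_rev, hai]; group
        rw [commutatorElement_def, commutatorElement_def, h5, h5, h5, h6, h6]
      rw [e4, commutatorElement_def, commutatorElement_def]
      symm
      calc w₁ * z₁ * (w₂ * z₂) * (w₁ * z₁)⁻¹ * (w₂ * z₂)⁻¹
          = w₁ * (z₁ * (w₂ * z₂)) * z₁⁻¹ * w₁⁻¹ * (z₂⁻¹ * w₂⁻¹) := by group
        _ = w₁ * w₂ * (z₂ * w₁⁻¹) * z₂⁻¹ * w₂⁻¹ := by
          rw [(hz₁ _ (J'.mul_mem hw₂' hz₂')).eq]; group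
        _ = w₁ * w₂ * w₁⁻¹ * w₂⁻¹ := by rw [(hz₂ _ (J'.inv_mem hw₁')).eq]; group
    rw [e3]
    set x₁ := w₁ * z₁ with hx₁
    set x₂ := w₂ * z₂ with hx₂
    have hx₁' : x₁ ∈ J' := J'.mul_mem hw₁' hz₁'
    have hx₂' : x₂ ∈ J' := J'.mul_mem hw₂' hz₂'
    symm
    calc ⁅u₁ * x₁, u₂ * x₂⁆ = u₁ * (x₁ * u₂) * x₂ * x₁⁻¹ * u₁⁻¹ * x₂⁻¹ * u₂⁻¹ := by
          rw [commutatorElement_def]; group
      _ = u₁ * u₂ * ((x₁ * x₂ * x₁⁻¹) * u₁⁻¹) * x₂⁻¹ * u₂⁻¹ := by
          rw [← (hcomm u₂ hu₂ x₁ hx₁').eq]; group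
      _ = u₁ * u₂ * u₁⁻¹ * (⁅x₁, x₂⁆ * u₂⁻¹) := by
          rw [← (hcomm _ (J.inv_mem hu₁) _ (J'.mul_mem (J'.mul_mem hx₁' hx₂') (J'.inv_mem hx₁'))).eq,
            commutatorElement_def]; group
      _ = ⁅u₁, u₂⁆ * ⁅x₁, x₂⁆ := by
          rw [← (hcomm _ (J.inv_mem hu₂) _ (J'.commutator_le_self (commutator_mem_commutator hx₁' hx₂'))).eq,
            commutatorElement_def u₁ u₂]; group
  have hqs : IsQuasisimple ↥φ.range := by
    have hne : φ.range ≠ ⊥ := fun he => hKne (le_bot_iff.1 (he ▸ hKφ))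
    have h1 : (⊤ : Subgroup ↥J).map φ = φ.range := (MonoidHom.range_eq_map φ).symm
    have htop : IsQuasisimple ↥(⊤ : Subgroup ↥J) := (Components.isQuasisimple_congr topEquiv).2 hJ.2
    have h2 := Components.IsQuasisimple.map_of_ne_bot htop (f := φ) (h1.symm ▸ hne)
    rwa [h1] at h2
  have hKeq : K = φ.range := by
    refine (Components.IsQuasisimple.eq_or_commutator_eq_bot_of_subnormal hqs hKφ
      (hK.1.comap (inclusion hφC))).resolve_right fun h => hKne ?_
    exact hKK.symm.trans (le_bot_iff.1 ((commutator_mono hKφ le_rfl).trans h.le))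
  refine ⟨φ.codRestrict K (fun j => hKeq ▸ ⟨j, rfl⟩), ?_, fun j => rfl⟩
  rintro ⟨k, hk⟩
  obtain ⟨j, rfl⟩ := hKφ hk
  exact ⟨j, rfl⟩

end Cfsg.Agent.Balance
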